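import Cfsg.Agent.Lib.Deg.Prj
import Cfsg.Agent.Lib.Deg.Weights

/-!
Eigenspaces of subgroups in complex representations; Heisenberg pairs.
-/

set_option autoImplicit false

namespace Cfsg.Agent.RD

open Module Cfsg.Agent.Deg Finset

variable {G V : Type*} [Group G] [AddCommGroup V] [Module ℂ V] {ρ : G →* End ℂ V}
  {A B Z : Subgroup G} {l : G → ℂ} {W : Submodule ℂ V} {g x y : G} {v : V}

variable (ρ) in
/-- common eigenvectors of a subgroup -/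
noncomputable def Ev (A : Subgroup G) (l : G → ℂ) : Submodule ℂ V := wtSp (fun a : A => ρ a) fun a => l a

theorem mem_Ev : v ∈ Ev ρ A l ↔ ∀ g ∈ A, ρ g v = l g • v := by simp [Ev, mem_wtSp]

theorem rep_mul (g h : G) (v : V) : ρ (g * h) v = ρ g (ρ h v) := by rw [map_mul]; rfl

theorem rep_inv (g : G) (v : V) : ρ g⁻¹ (ρ g v) = v := by rw [← rep_mul]; simp

theorem rep_inv' (g : G) (v : V) : ρ g (ρ g⁻¹ v) = v := by rw [← rep_mul]; simp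

variable (ρ) in
/-- pointwise stabiliser of a subspace -/
def Tr (W : Submodule ℂ V) : Subgroup G where
  carrier := {g | ∀ w ∈ W, ρ g w = w}
  one_mem' _ _ := by simp
  mul_mem' ha hb w hw := by rw [rep_mul, hb w hw, ha w hw]
  inv_mem' {a} ha w hw := by nth_rw 1 [← ha w hw]; rw [rep_inv]

theorem finrank_map_rep (g : G) (W : Submodule ℂ V) : finrank ℂ (W.map (ρ g)) = finrank ℂ W :=
  (Submodule.equivMapOfInjective _ (Function.LeftInverse.injective (rep_inv g)) W).finrank_eq.symm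

theorem sum_finrank_le [FiniteDimensional ℂ V] {ι A : Type*} [Fintype ι] (σ : A → End ℂ V)
    {l : ι → A → ℂ} (hl : Function.Injective l) {U : ι → Submodule ℂ V} (h1 : ∀ i, U i ≤ W)
    (h2 : ∀ i, U i ≤ wtSp σ (l i)) : ∑ i, finrank ℂ (U i) ≤ finrank ℂ W := by
  classical
  rw [← finrank_pi_fintype]
  refine LinearMap.finrank_le_finrank_of_injective
    (f := ∑ i, Submodule.inclusion (h1 i) ∘ₗ LinearMap.proj i)
    ((injective_iff_map_eq_zero _).2 fun v h => funext fun i => Subtype.ext ?_)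
  exact eq_zero_of_sum_fw σ l hl (fun i => v i) (fun i => mem_wtSp.1 (h2 i (v i).2))
    (by simpa using congrArg Subtype.val h) i

/-- eigenvalues on a common eigenvector -/
theorem exists_hom {μ : G → ℂ} (h0 : v ≠ 0) (h : v ∈ Ev ρ A μ) : ∃ χ : A →* ℂ, ∀ a, χ a = μ a :=
  ⟨⟨⟨fun a => μ a, smul_left_injective ℂ h0 (by simpa using (mem_Ev.1 h 1 (one_mem _)).symm)⟩,
    fun a b => smul_left_injective ℂ h0 (by
      have := mem_Ev.1 h _ (a * b).2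
      rw [Subgroup.coe_mul, rep_mul, mem_Ev.1 h _ b.2, map_smul, mem_Ev.1 h _ a.2, smul_smul,
        mul_comm] at this
      exact this.symm)⟩, fun _ => rfl⟩

theorem ev_ne_zero {μ : G → ℂ} (h0 : v ≠ 0) (h : v ∈ Ev ρ A μ) (hg : g ∈ A) : μ g ≠ 0 := fun e =>
  rep_apply_ne_zero ρ g h0 (by rw [mem_Ev.1 h g hg, e, zero_smul])

variable [Finite G] [FiniteDimensional ℂ V]

theorem exists_ev (hW : W ≠ ⊥) (hA : A ≤ stabSub ρ W)
    (hc : ∀ a ∈ A, ∀ b ∈ A, a * b = b * a) : ∃ μ, ∃ v ∈ W, v ≠ 0 ∧ v ∈ Ev ρ A μ := by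
  classical
  obtain ⟨v, h1, h2, h3⟩ := exists_common_eigenvector (fun a : A => ρ a)
    (fun a b => by rw [← map_mul, hc _ a.2 _ b.2, map_mul]) W hW fun a => hA a.2
  choose c hc using h3
  exact ⟨fun g => if h : g ∈ A then c ⟨g, h⟩ else 0, v, h1, h2,
    mem_Ev.2 fun g hg => by rw [dif_pos hg]; exact hc ⟨g, hg⟩⟩

theorem exists_ev_ne (hA : A ≤ stabSub ρ W) (hc : ∀ a ∈ A, ∀ b ∈ A, a * b = b * a)
    (h : ¬ A ≤ Tr ρ W) : ∃ μ, (∃ a ∈ A, μ a ≠ 1) ∧ ∃ v ∈ W, v ≠ 0 ∧ v ∈ Ev ρ A μ := by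
  obtain ⟨a, ha, h⟩ := SetLike.not_le_iff_exists.1 h
  obtain ⟨w, hw, h⟩ : ∃ w ∈ W, ρ a w ≠ w := by by_contra h'; push Not at h'; exact h h'
  obtain ⟨μ, v, ⟨w', hw', rfl⟩, h2, h3⟩ := exists_ev (ρ := ρ) (A := A) (W := W.map (ρ a - 1))
    (fun e => h (sub_eq_zero.1 ((Submodule.eq_bot_iff _).1 e _ ⟨w, hw, rfl⟩))) (by
      rintro b hb _ ⟨w', hw', rfl⟩
      exact ⟨ρ b w', hA hb _ hw', by
        simp only [LinearMap.sub_apply, End.one_apply, map_sub, ← rep_mul, hc a ha b hb]⟩) hc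
  refine ⟨μ, ⟨a, ha, fun e => h2 ?_⟩, _, sub_mem (hA ha _ hw') hw', h2, h3⟩
  have h4 := mem_Ev.1 h3 a ha
  rw [e, one_smul] at h4
  have h5 : ∀ n : ℕ, ρ (a ^ n) w' = w' + (n : ℂ) • (ρ a - 1) w' := fun n => by
    induction n with
    | zero => simp
    | succ n ih =>
      rw [pow_succ', rep_mul, ih, map_add, map_smul, h4]
      simp only [LinearMap.sub_apply, End.one_apply, Nat.cast_succ]; module
  simpa [(orderOf_pos a).ne'] using h5 (orderOf a)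

section heis
variable (hA : A ≤ stabSub ρ W) (hB : B ≤ stabSub ρ W) (hZ : W ≤ Ev ρ Z l)
  (hc : ∀ a ∈ A, ∀ b ∈ A, a * b = b * a) (hz : ∀ x ∈ A, ∀ y ∈ B, x * y * x⁻¹ * y⁻¹ ∈ Z)
  (hn : ∀ y ∈ B, y ≠ 1 → ∃ x ∈ A, l (x * y * x⁻¹ * y⁻¹) ≠ 1)
include hB hZ hz

omit [FiniteDimensional ℂ V] in
theorem heis_shift {μ : G → ℂ} (hv : v ∈ W) (h : v ∈ Ev ρ A μ) (hy : y ∈ B) :
    ρ y v ∈ Ev ρ A fun x => μ x * l (x * y * x⁻¹ * y⁻¹) := mem_Ev.2 fun x hx => by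
  rw [← smul_smul, ← mem_Ev.1 (hZ (hB hy _ hv)) _ (hz x hx y hy), ← map_smul, ← map_smul,
    ← mem_Ev.1 h x hx, ← rep_mul, ← rep_mul, ← rep_mul, inv_mul_cancel_right, inv_mul_cancel_right]

include hn in
omit [FiniteDimensional ℂ V] in
theorem heis_inj {μ : G → ℂ} (hv : v ∈ W) (h0 : v ≠ 0) (h : v ∈ Ev ρ A μ) : Function.Injective
    fun (y : B) (x : A) => μ x * l (x * y * x.1⁻¹ * y.1⁻¹) := fun y y' e => by
  by_contra h1
  obtain ⟨x, hx, h2⟩ := hn _ (y'⁻¹ * y).2 fun h => h1 (inv_mul_eq_one.1 (Subtype.ext h)).symm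
  have a1 := mem_Ev.1 (heis_shift hB hZ hz hv h (y'⁻¹ * y).2) x hx
  have a2 := mem_Ev.1 (heis_shift hB hZ hz (hB y.2 _ hv) (heis_shift hB hZ hz hv h y.2) y'⁻¹.2) x hx
  have a3 := mem_Ev.1 (heis_shift hB hZ hz (hB y'.2 _ hv) (heis_shift hB hZ hz hv h y'.2) y'⁻¹.2)
    x hx
  rw [Subgroup.coe_inv, rep_inv, mem_Ev.1 h x hx] at a3
  rw [show μ x * l (x * y * x⁻¹ * y.1⁻¹) = _ from congrFun e ⟨x, hx⟩, Subgroup.coe_inv, ← smul_left_injective ℂ h0 a3, ← rep_mul y'.1⁻¹] at a2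
  exact h2 ((mul_right_eq_self₀.1 (smul_left_injective ℂ (rep_apply_ne_zero ρ _ h0)
    (a1.symm.trans a2))).resolve_right (ev_ne_zero h0 h hx))

include hA hc hn in
theorem heis_ne_bot (hcard : Nat.card A ≤ Nat.card B) (hW : W ≠ ⊥) : W ⊓ Ev ρ A 1 ≠ ⊥ := by
  obtain ⟨μ, v, h1, h2, h3⟩ := exists_ev hW hA hc
  choose χ hχ using fun y : B =>
    exists_hom (rep_apply_ne_zero ρ y h2) (heis_shift hB hZ hz h1 h3 y.2)
  have := finite_monoidHom (Γ := A) (K := ℂ)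
  obtain ⟨y, hy⟩ := (Function.Injective.bijective_of_nat_card_le (f := χ)
    (fun y y' e => heis_inj hB hZ hz hn h1 h2 h3 (funext fun x =>
      (hχ y x).symm.trans (e ▸ hχ y' x)))
    (card_monoidHom_le.trans hcard)).2 1
  refine (Submodule.ne_bot_iff _).2 ⟨ρ y v, ⟨hB y.2 _ h1, mem_Ev.2 fun x hx => ?_⟩,
    rep_apply_ne_zero ρ _ h2⟩
  rw [mem_Ev.1 (heis_shift hB hZ hz h1 h3 y.2) x hx, ← hχ y ⟨x, hx⟩, hy]; rfl

include hn in
theorem heis_le : Nat.card B * finrank ℂ (W ⊓ Ev ρ A 1 : Submodule ℂ V) ≤ finrank ℂ W := by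
  by_cases h : W ⊓ Ev ρ A 1 = ⊥
  · rw [h, finrank_bot]; exact Nat.zero_le _
  obtain ⟨v, ⟨h1, h2⟩, h0⟩ := (Submodule.ne_bot_iff _).1 h
  have := Fintype.ofFinite B
  have := sum_finrank_le (W := W) (fun a : A => ρ a)
    (heis_inj hB hZ hz hn h1 h0 h2) (U := fun y => (W ⊓ Ev ρ A 1).map (ρ y))
    (by rintro y _ ⟨w, hw, rfl⟩; exact hB y.2 _ hw.1)
    (by rintro y _ ⟨w, hw, rfl⟩; exact heis_shift hB hZ hz hw.1 hw.2 y.2)
  simpa only [finrank_map_rep, sum_const, card_univ, smul_eq_mul, Nat.card_eq_fintype_card]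

end heis

omit [FiniteDimensional ℂ V] in
theorem conj_mem_Tr (hg : g ∈ stabSub ρ W) (hx : x ∈ Tr ρ W) : g * x * g⁻¹ ∈ Tr ρ W :=
  fun w hw => by rw [rep_mul, rep_mul, hx _ (inv_mem hg w hw), rep_inv']

omit [FiniteDimensional ℂ V] in
theorem Tr_le_stab : Tr ρ W ≤ stabSub ρ W := fun _ hg w hw => (hg w hw).symm ▸ hw

theorem comm_mem_Tr (h : finrank ℂ W ≤ 1) (hx : x ∈ stabSub ρ W) (hy : y ∈ stabSub ρ W) :
    x * y * x⁻¹ * y⁻¹ ∈ Tr ρ W := fun w hw => by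
  obtain ⟨u, hu⟩ := finrank_le_one_iff.1 h
  have e : ∀ g ∈ stabSub ρ W, ∃ c : ℂ, ∀ w ∈ W, ρ g w = c • w := fun g hg => by
    obtain ⟨c, hc⟩ := hu ⟨_, hg u u.2⟩
    refine ⟨c, fun w hw => ?_⟩
    obtain ⟨d, hd⟩ := hu ⟨w, hw⟩
    obtain rfl : d • u.1 = w := congrArg Subtype.val hd
    rw [map_smul, smul_comm, ← show c • u.1 = ρ g u from congrArg Subtype.val hc]
  obtain ⟨c, hc⟩ := e x hx
  rw [rep_mul, rep_mul, rep_mul, hc _ (hy _ (inv_mem hx _ (inv_mem hy _ hw))), ← map_smul,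
    ← hc _ (inv_mem hx _ (inv_mem hy _ hw)), rep_inv', rep_inv']

end Cfsg.Agent.RD
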