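import Cfsg.Agent.Lib.RD.A
import Cfsg.Agent.Lib.Chev.PreRGD

/-!
Weight spaces of long root subgroups in complex representations of groups with a root datum.
-/

set_option autoImplicit false

namespace Cfsg.Agent.RD

open Module Cfsg.Agent.Deg Cfsg.Agent.Chev Finset

variable {ι I : Type*} [Fintype I] [DecidableEq I] {R : RSys ι I} {α β γ δ k r s : ι} {i j : I}

variable (R) in
/-- long roots -/
def Lg (α : ι) : Prop := ∀ s, s ≠ α → R.pair α s ≤ 1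

theorem Lg.le_two (h : Lg R α) (s : ι) : R.pair α s ≤ 2 := by
  by_cases e : s = α
  · simp [e]
  · exact (h s e).trans (by norm_num)

theorem Lg.neg_le (h : Lg R α) (hs : s ≠ R.neg α) : -1 ≤ R.pair α s := by
  have := h (R.neg s) fun e => hs (by rw [← e, R.neg_neg'])
  rw [R.pair_neg_right] at this; omega

theorem Lg.map (h : Lg R α) {w : Equiv.Perm ι} (hw : w ∈ R.Aut) : Lg R (w α) := fun s hs => by
  rw [← w.apply_symm_apply s, RSys.Aut.pair_apply hw]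
  exact h _ fun e => hs (by rw [← e, w.apply_symm_apply])

theorem pair_comb {a b : ℤ} (h : R.rc k = a • R.rc r + b • R.rc s) (α : ι) :
    R.pair α k = a * R.pair α r + b * R.pair α s := by
  simp only [RSys.pair, h, map_add, map_smul, smul_eq_mul]

theorem pair_add (h : R.rc k = R.rc r + R.rc s) (α : ι) :
    R.pair α k = R.pair α r + R.pair α s := by simp only [RSys.pair, h, map_add]

theorem ht_lt_of_intv (hr : R.IsPos r) (hs : R.IsPos s) (hk : k ∈ R.intv r s) :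
    R.ht r + R.ht s ≤ R.ht k := by
  obtain ⟨a, b, ha, hb, h⟩ := hk
  have := hr.ht_pos
  have := hs.ht_pos
  rw [RSys.ht_comb h]; nlinarith

theorem le_of_intv (hr : R.IsPos r) (hs : R.IsPos s) (hk : k ∈ R.intv r s) :
    R.rc r + R.rc s ≤ R.rc k := fun m => by
  obtain ⟨a, b, ha, hb, h⟩ := hk
  have : 0 ≤ R.rc r m := hr m
  have : 0 ≤ R.rc s m := hs m
  simp only [h, Pi.add_apply, Pi.smul_apply, smul_eq_mul]; nlinarith

theorem pair_simple_le (h : ∀ m, m ≠ i → R.rc r m ≤ R.rc s m) :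
    R.pair (R.simple i) s - 2 * R.rc s i ≤ R.pair (R.simple i) r - 2 * R.rc r i := by
  rw [R.pair_simple_left, R.pair_simple_left, ← add_sum_erase _ _ (mem_univ i),
    ← add_sum_erase _ _ (mem_univ i), R.C_self, add_sub_cancel_left, add_sub_cancel_left]
  exact sum_le_sum fun m hm => mul_le_mul_of_nonpos_left (h m (ne_of_mem_erase hm))
    (R.C_nonpos (ne_of_mem_erase hm).symm)

theorem coord_pos (hr : R.IsPos r) (h : 0 < R.pair (R.simple i) r) : 0 < R.rc r i := by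
  rw [R.pair_simple_left, ← add_sum_erase _ _ (mem_univ i), R.C_self] at h
  have : ∑ m ∈ univ.erase i, R.C i m * R.rc r m ≤ 0 := sum_nonpos fun m hm =>
    mul_nonpos_of_nonpos_of_nonneg (R.C_nonpos (ne_of_mem_erase hm).symm) (hr m)
  omega

theorem Lg.intv_hook (h : Lg R α) (hr : 1 ≤ R.pair α r) (hs : 1 ≤ R.pair α s)
    (hk : k ∈ R.intv r s) : R.rc α = R.rc r + R.rc s := by
  obtain ⟨a, b, ha, hb, e⟩ := hk
  have h1 := pair_comb e α
  have h2 := h.le_two k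
  obtain rfl : k = α := by by_contra h3; have := h k h3; nlinarith
  have h3 : (a : ℤ) + b ≤ 2 := by nlinarith
  obtain rfl : a = 1 := by omega
  obtain rfl : b = 1 := by omega
  simpa using e

variable {G V : Type*} [Group G] [AddCommGroup V] [Module ℂ V] {ρ : G →* End ℂ V}
  {P : PreRGD R G} {N S : Set ι} {l : G → ℂ} {W : Submodule ℂ V} {g : G} {v : V}

variable (P) in
/-- Heisenberg relations and torus action for long root subgroups -/
structure LD : Prop where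
  ne : ∀ r, ∃ y ∈ P.X r, y ≠ 1
  heis : ∀ {α β γ}, Lg R α → R.rc α = R.rc β + R.rc γ → R.pair α β = 1 → ∀ y ∈ P.X γ, y ≠ 1 →
    ∀ z ∈ P.X α, ∃ x ∈ P.X β, z = x * y * x⁻¹ * y⁻¹
  tor : ∀ {α}, Lg R α → ∃ s : Finset G, s.card + 1 = Nat.card (P.X α) ∧ (∀ h ∈ s, h ∈ P.H) ∧
    ∀ h ∈ s, ∀ h' ∈ s, h ≠ h' → ∀ z ∈ P.X α, ∃ y ∈ P.X α, z = h⁻¹ * y * h * (h'⁻¹ * y * h')⁻¹

variable (ρ P) in
/-- fixed points of a set of root subgroups -/
noncomputable def Fx (N : Set ι) : Submodule ℂ V := Ev ρ (P.US N) 1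

variable (ρ P) in
/-- weight space -/
noncomputable def WS (N : Set ι) (α : ι) (l : G → ℂ) : Submodule ℂ V := Fx ρ P N ⊓ Ev ρ (P.X α) l

variable (P) in
/-- non-trivial weights -/
def NT (α : ι) (l : G → ℂ) : Prop := ∃ g ∈ P.X α, l g ≠ 1

theorem mem_Fx : v ∈ Fx ρ P N ↔ ∀ r ∈ N, ∀ g ∈ P.X r, ρ g v = v := by
  simp only [Fx, mem_Ev, Pi.one_apply, one_smul]
  exact ⟨fun h r hr g hg => h g (mem_USub hr hg), fun h g hg => USub_induction hg h (by simp)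
    fun x y _ _ hx hy => by rw [rep_mul, hy, hx]⟩

theorem mem_WS : v ∈ WS ρ P N α l ↔
    (∀ r ∈ N, ∀ g ∈ P.X r, ρ g v = v) ∧ ∀ g ∈ P.X α, ρ g v = l g • v := by
  rw [WS, Submodule.mem_inf, mem_Fx, mem_Ev]

theorem Fx_mono (h : S ⊆ N) : Fx ρ P N ≤ Fx ρ P S := fun _ hv =>
  mem_Fx.2 fun r hr => mem_Fx.1 hv r (h hr)

theorem WS_mono (h : S ⊆ N) : WS ρ P N α l ≤ WS ρ P S α l := inf_le_inf_right _ (Fx_mono h)

theorem Fx_empty : Fx ρ P ∅ = ⊤ := eq_top_iff.2 fun _ _ => mem_Fx.2 (by simp)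

theorem X_le_Tr (h : r ∈ N) : P.X r ≤ Tr ρ (WS ρ P N α l) := fun g hg _ hw =>
  (mem_WS.1 hw).1 r h g hg

theorem WS_le_of_Tr (h : ∀ r ∈ S, P.X r ≤ Tr ρ (WS ρ P N α l)) : WS ρ P N α l ≤ WS ρ P S α l :=
  fun v hv => mem_WS.2 ⟨fun r hr _ hg => h r hr hg v hv, (mem_WS.1 hv).2⟩

theorem WS_insert : WS ρ P (insert β N) α l = WS ρ P N α l ⊓ Ev ρ (P.X β) 1 := by
  ext v; simp only [Submodule.mem_inf, mem_WS, mem_Ev, Set.forall_mem_insert, Pi.one_apply, one_smul]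
  tauto

theorem X_commute (h : s ≠ R.neg r) (h' : R.intv r s = ∅) {a b : G} (ha : a ∈ P.X r)
    (hb : b ∈ P.X s) : a * b = b * a := by
  have := P.comm r s h a ha b hb
  rwa [h', USub_empty, Subgroup.mem_bot, mul_inv_eq_one, mul_inv_eq_iff_eq_mul] at this

theorem X_comm (r : ι) : ∀ a ∈ P.X r, ∀ b ∈ P.X r, a * b = b * a := fun _ ha _ hb =>
  X_commute (R.neg_ne_self r).symm (RSys.intv_self r) ha hb

theorem card_X_map {w : Equiv.Perm ι} (hw : w ∈ R.W) (r : ι) :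
    Nat.card (P.X (w r)) = Nat.card (P.X r) :=
  (Nat.card_congr (show P.X r ≃ P.X (w r) from ⟨fun x => ⟨_, P.nW_conj_X hw r x.2⟩, fun x =>
    ⟨(P.nW w)⁻¹ * x * P.nW w, by simpa using P.nW_inv_conj_X hw _ x.2⟩,
    fun x => by simp [mul_assoc], fun x => by simp [mul_assoc]⟩)).symm

theorem card_X_hook (h : R.rc α = R.rc β + R.rc γ) (h1 : R.pair α β = 1) :
    Nat.card (P.X γ) = Nat.card (P.X β) := by
  rw [← card_X_map (R.refl_mem_W β) β, ← card_X_map (R.refl_mem_W α) (R.refl β β)]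
  rw [R.rc_inj (a₁ := γ) (a₂ := R.refl α (R.refl β β))
    (by rw [R.refl_self, R.rc_refl, R.pair_neg_right, h1, R.rc_neg, h]; module)]

theorem exists_map {w : Equiv.Perm ι} (hw : w ∈ R.W) (h : ∀ r ∈ S, w⁻¹ r ∈ N) (hl : NT P α l) :
    ∃ l', NT P (w α) l' ∧ finrank ℂ (WS ρ P N α l) = finrank ℂ ((WS ρ P N α l).map (ρ (P.nW w))) ∧
      (WS ρ P N α l).map (ρ (P.nW w)) ≤ WS ρ P S (w α) l' := by
  obtain ⟨g, hg, hl⟩ := hl
  refine ⟨fun g => l ((P.nW w)⁻¹ * g * P.nW w), ⟨_, P.nW_conj_X hw α hg, by simpa [mul_assoc]⟩,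
    (finrank_map_rep _ _).symm, ?_⟩
  rintro _ ⟨v, hv, rfl⟩
  have e : ∀ g, ρ g (ρ (P.nW w) v) = ρ (P.nW w) (ρ ((P.nW w)⁻¹ * g * P.nW w) v) := fun g => by
    rw [rep_mul, rep_mul, rep_inv']
  exact mem_WS.2 ⟨fun r hr g hg => by
    rw [e, (mem_WS.1 hv).1 _ (h r hr) _ (P.nW_inv_conj_X hw r hg)], fun g hg => by
    rw [e, (mem_WS.1 hv).2 _ (by simpa using P.nW_inv_conj_X hw _ hg), map_smul]⟩

variable [Finite G]

theorem X_le_stab (h : ∀ r ∈ insert α N, r ≠ R.neg δ ∧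
    ∀ k ∈ R.intv δ r, P.X k ≤ Tr ρ (WS ρ P N α l)) : P.X δ ≤ stabSub ρ (WS ρ P N α l) := by
  intro g hg w hw
  have key : ∀ r ∈ insert α N, ∀ a ∈ P.X r, ∀ c : ℂ, ρ a w = c • w → ρ a (ρ g w) = c • ρ g w :=
    fun r hr a ha c hc => by
      rw [← map_smul, ← USub_le_iff.2 (h r hr).2 (P.comm δ r (h r hr).1 _ (inv_mem hg) a ha) _
        (Submodule.smul_mem _ c hw), ← hc, ← rep_mul, ← rep_mul, ← rep_mul]
      congr 2; group
  exact mem_WS.2 ⟨fun r hr a ha => by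
    simpa using key r (Or.inr hr) a ha 1 (by simpa using (mem_WS.1 hw).1 r hr a ha),
    fun a ha => key α (Or.inl rfl) a ha _ ((mem_WS.1 hw).2 a ha)⟩

theorem H_mem_stab (hg : g ∈ P.H) (h : ∀ x ∈ P.X α, x * g = g * x) :
    g ∈ stabSub ρ (WS ρ P N α l) := fun w hw => mem_WS.2 ⟨fun r hr a ha => by
      nth_rw 2 [← (mem_WS.1 hw).1 r hr _ (P.H_inv_conj_X hg r ha)]
      rw [rep_mul, rep_mul, rep_inv'],
    fun a ha => by rw [← rep_mul, h a ha, rep_mul, (mem_WS.1 hw).2 a ha, map_smul]⟩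

variable (R) in
/-- `X δ` normalises the subgroup of the set `N` -/
def Nm (N : Set ι) (δ : ι) : Prop := ∀ r ∈ N, r ≠ R.neg δ ∧ R.intv δ r ⊆ N

theorem hook_le_stab (hα : Lg R α) (h1 : R.pair α β = 1) (hN : Nm R N β) :
    P.X β ≤ stabSub ρ (WS ρ P N α l) := X_le_stab (by
  rintro r (rfl | hr)
  · refine ⟨fun e => by rw [R.eq_neg_comm.1 e] at h1; simp at h1, fun k hk => ?_⟩
    have := pair_add (hα.intv_hook h1.ge (by simp) hk) r
    simp [h1] at this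
  · exact ⟨(hN r hr).1, fun k hk => X_le_Tr ((hN r hr).2 hk)⟩)

namespace LD
variable (L : LD P) [FiniteDimensional ℂ V]
include L

theorem step (hα : Lg R α) (hl : NT P α l) (h : R.rc α = R.rc β + R.rc γ) (h1 : R.pair α β = 1)
    (hW : W ≤ Ev ρ (P.X α) l) (hβ : P.X β ≤ stabSub ρ W) (hγ : P.X γ ≤ stabSub ρ W) :
    Nat.card (P.X β) * finrank ℂ (W ⊓ Ev ρ (P.X β) 1 : Submodule ℂ V) ≤ finrank ℂ W ∧
      (W ≠ ⊥ → W ⊓ Ev ρ (P.X β) 1 ≠ ⊥) := by
  have h2 : R.pair α γ = 1 := by have := pair_add h α; simp at this; omega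
  have hz : ∀ x ∈ P.X β, ∀ y ∈ P.X γ, x * y * x⁻¹ * y⁻¹ ∈ P.X α := fun x hx y hy =>
    USub_le_iff.2 (fun k hk => by
      obtain ⟨a, b, ha, hb, e⟩ := hk
      have := pair_comb e α
      obtain rfl : k = α := by by_contra h3; have := hα k h3; rw [h1, h2] at *; omega
      exact le_rfl) (P.comm β γ (fun e => by simp [e, h1] at h2) x hx y hy)
  have hn : ∀ y ∈ P.X γ, y ≠ 1 → ∃ x ∈ P.X β, l (x * y * x⁻¹ * y⁻¹) ≠ 1 := fun y hy h0 => by
    obtain ⟨z, hz, h3⟩ := hl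
    obtain ⟨x, hx, rfl⟩ := L.heis hα h h1 y hy h0 z hz
    exact ⟨x, hx, h3⟩
  exact ⟨card_X_hook (P := P) h h1 ▸ heis_le hγ hW hz hn,
    heis_ne_bot hβ hγ hW (X_comm β) hz hn (card_X_hook h h1).ge⟩

theorem hook (hα : Lg R α) (hl : NT P α l) (Y : Finset ι) (h1 : ∀ β ∈ Y, R.pair α β = 1)
    (h2 : ∀ β ∈ Y, ∀ β' ∈ Y, R.rc α ≠ R.rc β + R.rc β') :
    (∏ β ∈ Y, Nat.card (P.X β)) * finrank ℂ (WS ρ P Y α l) ≤ finrank ℂ (WS ρ P ∅ α l) ∧
      (WS ρ P ∅ α l ≠ ⊥ → WS ρ P Y α l ≠ ⊥) := by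
  classical
  induction Y using Finset.induction_on with
  | empty => rw [coe_empty]; simp
  | insert β Y hβ ih =>
    obtain ⟨a1, a2⟩ := ih (fun r hr => h1 r (mem_insert_of_mem hr))
      fun r hr s hs => h2 r (mem_insert_of_mem hr) s (mem_insert_of_mem hs)
    have b1 := h1 β (mem_insert_self _ _)
    obtain ⟨γ, hγ⟩ := RSys.exists_sub_of_pair_pos (R := R) (r := β) (s := α)
      (R.pair_pos_comm.1 (by omega)) (by rintro rfl; simp at b1)
    have h : R.rc α = R.rc β + R.rc γ := by rw [hγ]; abel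
    have b2 : R.pair α γ = 1 := by have := pair_add h α; simp at this; omega
    have nm : ∀ δ, R.pair α δ = 1 → (∀ r ∈ Y, R.rc α ≠ R.rc δ + R.rc r) → Nm R Y δ :=
      fun δ e e' r hr => ⟨fun e2 => by
        have := h1 r (mem_insert_of_mem hr); simp [e2, e] at this, fun k hk =>
        (e' r hr (hα.intv_hook e.ge (h1 r (mem_insert_of_mem hr)).ge hk)).elim⟩
    obtain ⟨c1, c2⟩ := L.step (ρ := ρ) hα hl h b1 inf_le_right (hook_le_stab hα b1 (nm β b1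
      fun r hr => h2 β (mem_insert_self _ _) r (mem_insert_of_mem hr)))
      (hook_le_stab hα b2 (nm γ b2 fun r hr e => hβ (by
        rwa [R.rc_inj (add_right_cancel (h.symm.trans (e.trans (add_comm _ _))))])))
    rw [coe_insert, WS_insert, prod_insert hβ, mul_comm (Nat.card _), mul_assoc]
    exact ⟨(Nat.mul_le_mul_left _ c1).trans a1, fun h => c2 (a2 h)⟩

theorem chain_step (hα : Lg R α) (hl : NT P α l) (hS : S ⊆ N) :
    finrank ℂ (Fx ρ P (insert α S)) + (Nat.card (P.X α) - 1) * finrank ℂ (WS ρ P N α l) ≤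
      finrank ℂ (Fx ρ P S) := by
  by_cases h0 : WS ρ P N α l = ⊥
  · rw [h0, finrank_bot]; exact Submodule.finrank_mono (Fx_mono (Set.subset_insert _ _))
  obtain ⟨v, hv, h0⟩ := (Submodule.ne_bot_iff _).1 h0
  obtain ⟨χ, hχ⟩ := exists_hom h0 hv.2
  obtain ⟨s, h1, h2, h3⟩ := L.tor hα
  obtain ⟨z, hz, hl⟩ := hl
  have e : ∀ h : s, ∀ g w, ρ g (ρ h w) = ρ h (ρ (h.1⁻¹ * g * h) w) := fun h g w => by
    rw [rep_mul, rep_mul, rep_inv']
  have := sum_finrank_le (W := Fx ρ P S) (fun a : P.X α => ρ a)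
    (l := fun (o : Option s) a => o.elim 1 fun h => l (h.1⁻¹ * a * h)) ?_
    (U := fun o => o.elim (Fx ρ P (insert α S)) fun h => (WS ρ P N α l).map (ρ h)) ?_ ?_
  · rw [Fintype.sum_option, sum_congr rfl fun h _ => finrank_map_rep (ρ := ρ) h.1 _] at this
    rw [← h1, Nat.add_sub_cancel, ← Fintype.card_coe, ← card_univ, ← smul_eq_mul, ← sum_const]
    exact this
  · have a1 : ∀ h : s, l (h.1⁻¹ * (h * z * h.1⁻¹) * h) ≠ 1 := fun h => by simpa [mul_assoc]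
    rintro (_ | h) (_ | h') e
    · rfl
    · exact (a1 h' (congrFun e ⟨_, P.H_conj_X _ (h2 _ h'.2) _ _ hz⟩).symm).elim
    · exact (a1 h (congrFun e ⟨_, P.H_conj_X _ (h2 _ h.2) _ _ hz⟩)).elim
    · by_contra h4
      obtain ⟨y, hy, rfl⟩ := h3 _ h.2 _ h'.2 (fun e => h4 (congrArg _ (Subtype.ext e))) z hz
      have a2 := P.H_inv_conj_X (h2 _ h.2) _ hy
      have a3 := P.H_inv_conj_X (h2 _ h'.2) _ hy
      refine hl ((hχ (⟨_, a2⟩ * ⟨_, a3⟩⁻¹)).symm.trans ?_)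
      rw [map_mul, hχ, show l (h.1⁻¹ * y * h) = _ from congrFun e ⟨y, hy⟩]
      exact (congrArg (· * _) (hχ ⟨_, a3⟩).symm).trans (by rw [← map_mul]; simp)
  · rintro (_ | h)
    · exact Fx_mono (Set.subset_insert _ _)
    · rintro _ ⟨w, hw, rfl⟩
      exact mem_Fx.2 fun r hr g hg => by
        rw [e, (mem_WS.1 hw).1 r (hS hr) _ (P.H_inv_conj_X (h2 _ h.2) _ hg)]
  · rintro (_ | h)
    · exact fun w hw => mem_wtSp.2 fun a => by
        simpa using mem_Fx.1 hw α (Set.mem_insert _ _) a a.2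
    · rintro _ ⟨w, hw, rfl⟩
      exact mem_wtSp.2 fun a => by
        rw [e, (mem_WS.1 hw).2 _ (P.H_inv_conj_X (h2 _ h.2) _ a.2), map_smul]; rfl

theorem chain (key : ι → ℤ) (N : ι → Set ι) (d : ι → ℕ) (S : Finset ι)
    (h1 : ∀ α ∈ S, Lg R α ∧ ∃ l, NT P α l ∧ d α ≤ finrank ℂ (WS ρ P (N α) α l))
    (h2 : ∀ α ∈ S, ∀ β ∈ S, β ≠ α → key α ≤ key β → β ∈ N α) :
    finrank ℂ (Fx ρ P S) + ∑ α ∈ S, (Nat.card (P.X α) - 1) * d α ≤ finrank ℂ V := by
  classical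
  induction S using Finset.induction_on_min_value key with
  | empty => rw [coe_empty, Fx_empty]; simp
  | insert α S h3 h4 ih =>
    obtain ⟨hα, l, hl, h5⟩ := h1 α (mem_insert_self _ _)
    have a1 := ih (fun β hβ => h1 β (mem_insert_of_mem hβ))
      fun β hβ γ hγ => h2 β (mem_insert_of_mem hβ) γ (mem_insert_of_mem hγ)
    have a2 := L.chain_step (ρ := ρ) hα hl (S := S) fun β hβ => h2 α (mem_insert_self _ _) β
      (mem_insert_of_mem hβ) (by rintro rfl; exact h3 hβ) (h4 β hβ)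
    have a3 := Nat.mul_le_mul_left (Nat.card (P.X α) - 1) h5
    rw [sum_insert h3, coe_insert]; omega

end LD

end Cfsg.Agent.RD
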