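import Cfsg.Agent.Lib.RD.B

/-!
Weight vectors of long root subgroups fixed by all higher root subgroups.
-/

set_option autoImplicit false

namespace Cfsg.Agent.RD

open Module Cfsg.Agent.Deg Cfsg.Agent.Chev Finset

variable {ι I : Type*} [Fintype I] [DecidableEq I] {R : RSys ι I} {α β γ δ k r s : ι} {i j : I}
  {G V : Type*} [Group G] [AddCommGroup V] [Module ℂ V] {ρ : G →* End ℂ V}
  {P : PreRGD R G} {E N S : Set ι} {l : G → ℂ} {W : Submodule ℂ V} {g : G} {v : V}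

variable (R) in
/-- positive roots not below `α` -/
def NE (E : Set ι) (α : ι) : Set ι := {γ | R.IsPos γ ∧ ¬ R.rc γ ≤ R.rc α ∧ γ ∉ E}

theorem ne_neg_of_pos (hr : R.IsPos r) (hs : R.IsPos s) : r ≠ R.neg s := fun e =>
  RSys.isPos_neg_iff.1 (e ▸ hr) hs

theorem nm_NE (hE : ∀ e ∈ E, R.ht e = 1) (hδ : R.IsPos δ) : Nm R (NE R E α) δ := fun r hr =>
  ⟨ne_neg_of_pos hr.1 hδ, fun k hk => ⟨hδ.of_mem_intv hr.1 hk, fun h => hr.2.1
    ((le_add_of_nonneg_left hδ).trans ((le_of_intv hδ hr.1 hk).trans h)), fun h => by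
      have := ht_lt_of_intv hδ hr.1 hk
      have := hδ.ht_pos
      have := hr.1.ht_pos
      have := hE k h
      omega⟩⟩

theorem mem_NE_of_ht (hβ : R.IsPos β) (h : β ≠ α) (h' : R.ht α ≤ R.ht β) (hE : β ∉ E) :
    β ∈ NE R E α := ⟨hβ, fun h1 => h (R.rc_inj (funext fun m => by_contra fun h2 => by
      have := sum_lt_sum (s := univ) (fun m _ => h1 m) ⟨m, mem_univ _, (h1 m).lt_of_ne h2⟩
      simp only [RSys.ht, RSys.htv_apply] at h'
      omega)), hE⟩

variable (R) in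
/-- the positive part of the hook of a simple root -/
def Hk (j : I) : Set ι := {β | R.IsPos β ∧ R.pair (R.simple j) β = 1}

variable [Finite G]

theorem st0 (ha : Lg R (R.simple j)) (hδ : R.IsPos δ ∨ ∃ i, δ = R.neg (R.simple i))
    (h0 : R.pair (R.simple j) δ = 0) : P.X δ ≤ stabSub ρ (WS ρ P (Hk R j) (R.simple j) l) := by
  refine X_le_stab fun r hr => ?_
  have h1 : R.IsPos r ∧ 1 ≤ R.pair (R.simple j) r := by
    rcases hr with rfl | hr
    exacts [⟨R.isPos_simple j, by simp⟩, ⟨hr.1, hr.2.ge⟩]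
  refine ⟨fun e => by simp [e, h0] at h1, fun k hk => X_le_Tr ?_⟩
  obtain ⟨a, b, h2, h3, e⟩ := id hk
  have h4 := pair_comb e (R.simple j)
  have h5 := coord_pos h1.1 (by omega : 0 < R.pair (R.simple j) r)
  have h6 : 0 ≤ R.rc δ j ∧ k ≠ R.simple j := by
    rcases hδ with hδ | ⟨i, rfl⟩
    · refine ⟨hδ j, fun e => ?_⟩
      have := ht_lt_of_intv hδ h1.1 hk
      have := hδ.ht_pos
      have := h1.1.ht_pos
      simp [e] at *; omega
    · have h7 : j ≠ i := by rintro rfl; simp at h0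
      refine ⟨by simp [R.rc_neg, R.rc_simple, h7], fun e' => ?_⟩
      have h8 := congrFun e j
      have h9 := congrFun e i
      rw [e', h0, R.pair_self] at h4
      simp [e', R.rc_neg, R.rc_simple, h7, h7.symm] at h8 h9
      obtain rfl : b = 1 := by nlinarith
      obtain rfl : r = R.simple j := by by_contra h; have := ha r h; push_cast at h4; omega
      simp [R.rc_simple, h7.symm] at h9; omega
  have h7 := congrFun e j
  simp only [Pi.add_apply, Pi.smul_apply, smul_eq_mul] at h7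
  have := ha k h6.2
  exact ⟨RSys.isPos_of_coord (i := j) (by nlinarith), by nlinarith⟩

theorem st1 (ha : Lg R (R.simple j)) (hδ : R.IsPos δ) (h0 : R.pair (R.simple j) δ = -1)
    (h1 : ∀ k, R.IsPos k → R.pair (R.simple j) k = 0 →
      P.X k ≤ Tr ρ (WS ρ P (Hk R j) (R.simple j) l))
    (h2 : Lg R δ ∨ ∀ k, R.IsPos k → R.pair (R.simple j) k = -1 →
      R.rc δ + R.rc (R.simple j) ≤ R.rc k → P.X k ≤ Tr ρ (WS ρ P (Hk R j) (R.simple j) l)) :
    P.X δ ≤ stabSub ρ (WS ρ P (Hk R j) (R.simple j) l) := by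
  refine X_le_stab fun r hr => ?_
  have h3 : R.IsPos r ∧ 1 ≤ R.pair (R.simple j) r := by
    rcases hr with rfl | hr
    exacts [⟨R.isPos_simple j, by simp⟩, ⟨hr.1, hr.2.ge⟩]
  refine ⟨ne_neg_of_pos h3.1 hδ, fun k hk => ?_⟩
  have h4 := hδ.of_mem_intv h3.1 hk
  have h5 := ha k fun e => by
    have := ht_lt_of_intv hδ h3.1 hk
    have := hδ.ht_pos
    have := h3.1.ht_pos
    simp [e] at *; omega
  have h6 := ha.neg_le (ne_neg_of_pos h4 (R.isPos_simple j))
  obtain h7 | h7 | h7 : R.pair (R.simple j) k = 1 ∨ R.pair (R.simple j) k = 0 ∨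
    R.pair (R.simple j) k = -1 := by omega
  · exact X_le_Tr ⟨h4, h7⟩
  · exact h1 k h4 h7
  · rcases h2 with h2 | h2
    · obtain ⟨a, b, h8, h9, e⟩ := hk
      have := pair_comb e (R.simple j)
      have := pair_comb e δ
      have := h2.le_two k
      have := h2.neg_le (ne_neg_of_pos h3.1 hδ)
      rw [R.pair_self] at *; nlinarith
    · refine h2 k h4 h7 ((add_le_add_right (fun m => ?_) _).trans (le_of_intv hδ h3.1 hk))
      rw [R.rc_simple, Pi.single_apply]
      split_ifs with e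
      exacts [e ▸ coord_pos h3.1 (by omega), h3.1 m]

namespace LD
variable (L : LD P) [FiniteDimensional ℂ V]
include L

theorem up (hE : ∀ e ∈ E, R.ht e = 1) (hEi : ∀ e ∈ E, R.sref i e = e) (hβ : Lg R β)
    (hp : R.IsPos β) (h : R.pair (R.simple i) β < 0) (hl : NT P β l) : ∃ l', NT P (R.sref i β) l' ∧
      Nat.card (P.X (R.simple i)) * finrank ℂ (WS ρ P (NE R E β) β l) ≤
        finrank ℂ (WS ρ P (NE R E (R.sref i β)) (R.sref i β) l') := by
  have hα := hβ.map (R.sref_mem_Aut i)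
  have a0 := R.rc_sref i β
  have a1 : R.pair (R.simple i) (R.sref i β) = -R.pair (R.simple i) β := by
    rw [← R.refl_simple, R.pair_refl_right, R.pair_self]; ring
  have a2 : R.sref i β ≠ R.simple i := fun e => RSys.not_isPos_neg_simple i (by
    rwa [← R.sref_simple, ← e, R.sref_sref])
  set α := R.sref i β
  have a3 : R.pair α (R.simple i) = 1 := by
    have := hα _ a2.symm
    have := R.pair_pos_comm.1 (show 0 < R.pair (R.simple i) α by omega)
    omega
  obtain ⟨δ, hδ⟩ := RSys.exists_sub_of_pair_pos (R := R) (r := R.simple i) (s := α) (by omega) a2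
  have a4 : R.rc α = R.rc δ + R.rc (R.simple i) := by rw [hδ]; abel
  have a5 : R.pair α δ = 1 := by have := pair_add a4 α; rw [R.pair_self] at this; omega
  have a6 : 0 ≤ R.rc β i := hp i
  have a7 : R.IsPos δ := fun m => by
    have : 0 ≤ R.rc β m := hp m
    simp only [hδ, a0, R.rc_simple, Pi.sub_apply, Pi.smul_apply, Pi.single_apply, Pi.zero_apply]
    split_ifs <;> simp <;> omega
  obtain ⟨l', h1, h2, h3⟩ := exists_map (ρ := ρ) (R.sref_mem_W i) (N := NE R E β)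
    (S := insert δ (NE R E α)) (by
      rw [R.sref_inv]
      rintro r (rfl | ⟨b1, b2, b3⟩)
      · have b1 : R.rc (R.sref i r) = R.rc β + R.rc (R.simple i) := by
          have := pair_add a4 (R.simple i)
          rw [R.rc_sref, hδ, a0, show R.pair (R.simple i) r = -R.pair (R.simple i) β - 2 by
            rw [R.pair_self] at this; omega, R.rc_simple]
          module
        refine ⟨by unfold RSys.IsPos; rw [b1]; exact add_nonneg hp (R.isPos_simple i), fun e => ?_,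
          fun e => ?_⟩
        · simpa [b1, R.rc_simple] using e i
        · have := hE _ e
          have := hp.ht_pos
          rw [RSys.ht, b1, map_add] at *
          have := R.ht_simple i
          rw [RSys.ht] at this; omega
      · refine ⟨b1.sref fun e => b2 fun m => ?_, fun e => b2 fun m => ?_,
          fun e => b3 (by rw [← R.sref_sref i r, hEi _ e]; exact e)⟩
        · have : 0 ≤ R.rc β m := hp m
          simp only [e, a0, R.rc_simple, Pi.sub_apply, Pi.smul_apply, Pi.single_apply]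
          split_ifs <;> simp <;> omega
        · have b4 : ∀ m, m ≠ i → R.rc r m ≤ R.rc α m := fun m hm => by
            simpa [a0, R.rc_sref, hm] using e m
          by_cases hm : m = i
          · have b5 := pair_simple_le b4
            have b6 := (abs_le.1 (R.abs_pair_le (R.simple i) r)).2
            by_cases hc : R.pair (R.simple i) β = -1
            · obtain rfl : δ = β := R.rc_inj (by rw [hδ, a0, hc, R.rc_simple]; module)
              have b7 := ((hβ.map (R.refl_mem_Aut α)).map (R.refl_mem_Aut (R.refl α δ))).le_two r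
              rw [R.refl_self, show R.neg (R.refl α δ) = R.simple i from R.rc_inj (by
                rw [R.rc_neg, R.rc_refl, a5, a4]; module)] at b7
              exact hm ▸ (by omega : R.rc r i ≤ R.rc α i)
            · exact hm ▸ (by omega : R.rc r i ≤ R.rc α i)
          · exact b4 m hm) hl
  refine ⟨l', h1, le_trans ?_ (L.step (W := WS ρ P (NE R E α) α l') hα h1 a4 a5 inf_le_right
    (hook_le_stab hα a5 (nm_NE hE a7)) (hook_le_stab hα a3 (nm_NE hE (R.isPos_simple i)))).1⟩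
  rw [card_X_hook (P := P) a4 a5, h2, ← WS_insert]
  exact Nat.mul_le_mul_left _ (Submodule.finrank_mono h3)

omit [FiniteDimensional ℂ V] in
theorem exists_m (h1 : P.X (R.simple i) ≤ stabSub ρ W) (h2 : P.X (R.neg (R.simple i)) ≤ stabSub ρ W) :
    ∃ m ∈ stabSub ρ W, ∀ r, ∀ x ∈ P.X r, m * x * m⁻¹ ∈ P.X (R.sref i r) := by
  obtain ⟨y, hy, h0⟩ := L.ne (R.neg (R.simple i))
  obtain ⟨a, ha, h, hh, b, hb, e⟩ := P.neg_mem i y hy h0
  refine ⟨P.n i * h, ?_, fun r x hx => by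
    simpa [mul_assoc] using P.n_conj_X i r _ (P.H_conj_X h hh r x hx)⟩
  rw [show P.n i * h = a⁻¹ * y * b⁻¹ by rw [e]; group]
  exact mul_mem (mul_mem (inv_mem (h1 ha)) (h2 hy)) (inv_mem (h1 hb))

omit [FiniteDimensional ℂ V] in
theorem tr_conj (h1 : P.X (R.simple i) ≤ stabSub ρ W) (h2 : P.X (R.neg (R.simple i)) ≤ stabSub ρ W)
    (h : P.X (R.sref i δ) ≤ Tr ρ W) : P.X δ ≤ Tr ρ W := fun x hx => by
  obtain ⟨m, hm, h3⟩ := L.exists_m h1 h2
  simpa [mul_assoc] using conj_mem_Tr (inv_mem hm) (h (h3 δ x hx))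

theorem tr_comm (hα : Lg R α) (h : R.rc α = R.rc β + R.rc γ) (h1 : R.pair α β = 1)
    (hβ : P.X β ≤ stabSub ρ W) (hγ : P.X γ ≤ stabSub ρ W)
    (h2 : P.X β ≤ Tr ρ W ∨ P.X γ ≤ Tr ρ W ∨ finrank ℂ W ≤ 1) : P.X α ≤ Tr ρ W := fun z hz => by
  obtain ⟨y, hy, h0⟩ := L.ne γ
  obtain ⟨x, hx, rfl⟩ := L.heis hα h h1 y hy h0 z hz
  rcases h2 with h2 | h2 | h2
  · rw [mul_assoc, mul_assoc, ← mul_assoc y]
    exact mul_mem (h2 hx) (conj_mem_Tr (hγ hy) (inv_mem (h2 hx)))
  · exact mul_mem (conj_mem_Tr (hβ hx) (h2 hy)) (inv_mem (h2 hy))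
  · exact comm_mem_Tr h2 (hβ hx) (hγ hy)

theorem tr_two (hα : Lg R α) (h1 : R.pair (R.simple i) α = 1) (hW : finrank ℂ W ≤ 2)
    (h2 : P.X α ≤ stabSub ρ W) (h3 : P.X (R.sref i α) ≤ stabSub ρ W)
    (h4 : P.X (R.simple i) ≤ stabSub ρ W) (h5 : P.X (R.neg (R.simple i)) ≤ stabSub ρ W) :
    P.X α ≤ Tr ρ W := by
  by_contra h
  obtain ⟨l, hl, v, hv⟩ := exists_ev_ne h2 (X_comm α) h
  have a1 : R.rc α = R.rc (R.sref i α) + R.rc (R.simple i) := by
    rw [R.rc_sref, h1, R.rc_simple]; module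
  have a2 : R.pair α (R.simple i) = 1 := by
    have := hα (R.simple i) (by rintro rfl; simp at h1)
    have := R.pair_pos_comm.1 (show 0 < R.pair (R.simple i) α by omega)
    omega
  have a3 : R.pair α (R.sref i α) = 1 := by
    have := pair_add a1 α; rw [R.pair_self] at this; omega
  have st : ∀ β, R.pair α β = 1 → P.X β ≤ stabSub ρ W → P.X β ≤ stabSub ρ (W ⊓ Ev ρ (P.X α) l) :=
    fun β e h g hg w hw => ⟨h hg w hw.1, (hook_le_stab (N := ∅) hα e (fun _ => False.elim) hg w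
      ⟨Fx_empty (ρ := ρ) (P := P) ▸ trivial, hw.2⟩).2⟩
  obtain ⟨b1, b2⟩ := L.step hα hl a1 a3 inf_le_right (st _ a3 h3) (st _ a2 h4)
  replace b2 := b2 ((Submodule.ne_bot_iff _).2 ⟨v, ⟨hv.1, hv.2.2⟩, hv.2.1⟩)
  obtain ⟨u, ⟨⟨u1, -⟩, u2⟩, u0⟩ := (Submodule.ne_bot_iff _).1 b2
  obtain ⟨m, hm, h6⟩ := L.exists_m h4 h5
  obtain ⟨z, hz, hl⟩ := hl
  have b3 := Submodule.finrank_lt_finrank_of_lt (s := W ⊓ Ev ρ (P.X α) l) (t := W)
    (lt_of_le_of_ne inf_le_left fun e => hl (by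
      have := mem_Ev.1 (e.ge (inv_mem hm u u1)).2 z hz
      rw [← rep_mul, show z * m⁻¹ = m⁻¹ * (m * z * m⁻¹) by group, rep_mul,
        mem_Ev.1 u2 _ (h6 α z hz), Pi.one_apply, one_smul] at this
      exact smul_left_injective ℂ (rep_apply_ne_zero ρ _ u0) (this.symm.trans (one_smul _ _).symm)))
  obtain ⟨y, hy, h0⟩ := L.ne (R.sref i α)
  have : Nontrivial (P.X (R.sref i α)) := ⟨⟨⟨y, hy⟩, 1, by simpa⟩⟩
  have := Finite.one_lt_card (α := P.X (R.sref i α))
  have := Nat.pos_of_ne_zero (mt Submodule.finrank_eq_zero.1 b2)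
  nlinarith

theorem sl_tr (hL : ∀ r, Lg R r) (hW : finrank ℂ (WS ρ P (Hk R j) (R.simple j) l) ≤ 2)
    (h : ∀ δ, R.IsPos δ → R.pair (R.simple j) δ ≤ 0 → ∃ i, R.C j i = 0 ∧
      (R.pair (R.simple i) δ = 1 ∨ R.pair (R.simple i) δ = -1) ∨
        R.C j i = -1 ∧ R.pair (R.simple i) δ = 1 ∧ R.pair (R.simple j) δ = -1) :
    WS ρ P (Hk R j) (R.simple j) l ≤ WS ρ P (NE R E (R.simple j)) (R.simple j) l := by
  have s1 : ∀ i, R.C j i = 0 → P.X (R.simple i) ≤ stabSub ρ (WS ρ P (Hk R j) (R.simple j) l) ∧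
      P.X (R.neg (R.simple i)) ≤ stabSub ρ (WS ρ P (Hk R j) (R.simple j) l) := fun i e =>
    ⟨st0 (hL _) (Or.inl (R.isPos_simple i)) (by rw [R.pair_simple_simple, e]),
      st0 (hL _) (Or.inr ⟨i, rfl⟩) (by rw [R.pair_neg_right, R.pair_simple_simple, e]; rfl)⟩
  have s2 : ∀ i δ, R.pair (R.simple j) (R.sref i δ) =
      R.pair (R.simple j) δ - R.pair (R.simple i) δ * R.C j i :=
    fun i δ => by rw [← R.refl_simple, R.pair_refl_right, R.pair_simple_simple]
  have s3 : ∀ i δ, R.pair (R.simple i) (R.sref i δ) = -R.pair (R.simple i) δ := fun i δ => by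
    rw [← R.refl_simple, R.pair_refl_right, R.pair_self]; ring
  have s4 : ∀ i δ, R.pair (R.simple i) δ = 1 → R.rc δ = R.rc (R.simple i) + R.rc (R.sref i δ) ∧
      R.pair δ (R.simple i) = 1 := fun i δ e => ⟨by rw [R.rc_sref, e, R.rc_simple]; module, by
        have := hL δ (R.simple i) (by rintro rfl; simp at e)
        have := R.pair_pos_comm.1 (show 0 < R.pair (R.simple i) δ by omega)
        omega⟩
  have key : ∀ c, c ≤ 0 → (∀ δ i, R.IsPos δ → R.IsPos (R.sref i δ) → R.pair (R.simple j) δ = c →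
      (R.C j i = 0 ∨ R.C j i = -1 ∧ c = -1) → R.pair (R.simple i) δ = 1 →
        P.X δ ≤ Tr ρ (WS ρ P (Hk R j) (R.simple j) l)) →
      ∀ δ, R.IsPos δ → R.pair (R.simple j) δ = c → P.X δ ≤ Tr ρ (WS ρ P (Hk R j) (R.simple j) l) :=
    fun c hc h1 δ h2 h3 => by
      obtain ⟨i, h4⟩ := h δ h2 (by omega)
      have h6 := h2.sref (i := i) (by rintro rfl; simp at h4)
      rcases h4 with ⟨h4, h5 | h5⟩ | ⟨h4, h5, h7⟩
      · exact h1 δ i h2 h6 h3 (Or.inl h4) h5
      · exact L.tr_conj (s1 i h4).1 (s1 i h4).2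
          (h1 _ i h6 (by simpa) (by simp [s2, h3, h4]) (Or.inl h4) (by rw [s3, h5]; rfl))
      · exact h1 δ i h2 h6 h3 (Or.inr ⟨h4, by omega⟩) h5
  have k0 := key 0 le_rfl fun δ i h1 h2 h3 h4 h5 => by
    replace h4 := h4.resolve_right (by simp)
    exact L.tr_two (hL δ) h5 hW (st0 (hL _) (Or.inl h1) h3)
      (st0 (hL _) (Or.inl h2) (by simp [s2, h3, h4])) (s1 i h4).1 (s1 i h4).2
  have k1 := key (-1) (by norm_num) fun δ i h1 h2 h3 h4 h5 => by
    rcases h4 with h4 | ⟨h4, -⟩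
    · exact L.tr_comm (hL δ) (s4 i δ h5).1 (s4 i δ h5).2 (s1 i h4).1
        (st1 (hL _) h2 (by simp [s2, h3, h4]) k0 (Or.inl (hL _)))
        (Or.inl (k0 _ (R.isPos_simple i) (by rw [R.pair_simple_simple, h4])))
    · have h6 := k0 _ h2 (by simp [s2, h3, h4, h5])
      exact L.tr_comm (hL δ) (s4 i δ h5).1 (s4 i δ h5).2 (st1 (hL _) (R.isPos_simple i)
        (by rw [R.pair_simple_simple, h4]) k0 (Or.inl (hL _))) (h6.trans Tr_le_stab)
        (Or.inr (Or.inl h6))
  refine WS_le_of_Tr fun r hr => ?_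
  have := hL _ r fun e => hr.2.1 (e ▸ le_rfl)
  have := (hL _).neg_le (ne_neg_of_pos hr.1 (R.isPos_simple j))
  obtain h7 | h7 | h7 : R.pair (R.simple j) r = 1 ∨ R.pair (R.simple j) r = 0 ∨
    R.pair (R.simple j) r = -1 := by omega
  exacts [X_le_Tr ⟨hr.1, h7⟩, k0 r hr.1 h7, k1 r hr.1 h7]

theorem base [Fintype ι] (ha : Lg R (R.simple j)) (h : ¬ P.X (R.simple j) ≤ ρ.ker)
    [DecidablePred (· ∈ Hk R j)] : ∃ l, NT P (R.simple j) l ∧
      0 < finrank ℂ (WS ρ P (Hk R j) (R.simple j) l) ∧ (Nat.card (P.X (R.simple j)) - 1) *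
        ((∏ β with β ∈ Hk R j, Nat.card (P.X β)) * finrank ℂ (WS ρ P (Hk R j) (R.simple j) l)) ≤
      finrank ℂ V := by
  obtain ⟨l, hl, v, -, h0, hv⟩ := exists_ev_ne (ρ := ρ) (W := ⊤) (fun _ _ _ _ => trivial)
    (X_comm _) fun h' => h fun g hg => LinearMap.ext fun w => h' hg w trivial
  obtain ⟨h1, h2⟩ := L.hook (ρ := ρ) ha hl (univ.filter (· ∈ Hk R j)) (fun β hβ => (mem_filter.1 hβ).2.2)
    fun β hβ γ hγ e => by
      have := (mem_filter.1 hβ).2.1.ht_pos
      have := (mem_filter.1 hγ).2.1.ht_pos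
      have h := R.ht_simple j
      rw [RSys.ht, e, map_add] at h
      rw [RSys.ht] at *; omega
  rw [show ((univ.filter (· ∈ Hk R j) : Finset ι) : Set ι) = Hk R j by ext; simp] at h1 h2
  refine ⟨l, hl, Nat.pos_of_ne_zero (mt Submodule.finrank_eq_zero.1 (h2
    ((Submodule.ne_bot_iff _).2 ⟨v, ⟨mem_Fx.2 (by simp), hv⟩, h0⟩))), ?_⟩
  exact (Nat.mul_le_mul_left _ h1).trans (le_of_add_le_right ((L.chain_step ha hl le_rfl).trans
    (Submodule.finrank_le _)))

end LD

end Cfsg.Agent.RD
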