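import Cfsg.Agent.Lib.Chev.TabDefs

/-!
Certificates for non-divisibility of values of integer polynomials.
-/

set_option autoImplicit false

namespace Cfsg.Agent.RD

open Cfsg.Agent.Chev

/-- evaluation of a coefficient list -/
def pev : List ℤ → ℤ → ℤ
  | [], _ => 0
  | c :: p, x => c + x * pev p x

/-- sum of coefficient lists -/
def padd : List ℤ → List ℤ → List ℤ
  | [], q => q
  | a :: p, [] => a :: p
  | a :: p, b :: q => (a + b) :: padd p q

/-- product of coefficient lists -/
def pmul : List ℤ → List ℤ → List ℤ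
  | [], _ => []
  | a :: p, q => padd (q.map (a * ·)) (0 :: pmul p q)

/-- Taylor shift -/
def pshift (b : ℤ) : List ℤ → List ℤ
  | [] => []
  | c :: p => padd [c] (pmul [b, 1] (pshift b p))

/-- the product of the polynomials `X ^ d - 1` -/
def pord : List ℕ → List ℤ
  | [] => [1]
  | d :: l => padd (pmul [-1] (pord l)) (List.replicate d 0 ++ pord l)

variable {x : ℤ}

theorem pev_padd : ∀ p q : List ℤ, pev (padd p q) x = pev p x + pev q x
  | [], q => by simp [padd, pev]
  | a :: p, [] => by simp [padd, pev]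
  | a :: p, b :: q => by simp only [padd, pev, pev_padd p q]; ring

theorem pev_map (a : ℤ) : ∀ q : List ℤ, pev (q.map (a * ·)) x = a * pev q x
  | [] => by simp [pev]
  | b :: q => by simp only [List.map, pev, pev_map a q]; ring

theorem pev_pmul : ∀ p q : List ℤ, pev (pmul p q) x = pev p x * pev q x
  | [], q => by simp [pmul, pev]
  | a :: p, q => by simp only [pmul, pev_padd, pev_map, pev, pev_pmul p q]; ring

theorem pev_pshift (b : ℤ) : ∀ p : List ℤ, pev (pshift b p) x = pev p (b + x)
  | [] => rfl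
  | c :: p => by simp only [pshift, pev_padd, pev_pmul, pev, pev_pshift b p]; ring

theorem pev_replicate (p : List ℤ) : ∀ d, pev (List.replicate d 0 ++ p) x = x ^ d * pev p x
  | 0 => by simp
  | d + 1 => by simp only [List.replicate_succ, List.cons_append, pev, pev_replicate p d]; ring

theorem pev_pord : ∀ l : List ℕ, pev (pord l) x = (l.map fun d => x ^ d - 1).prod
  | [] => by simp [pord, pev]
  | d :: l => by
    simp only [pord, pev_padd, pev_pmul, pev_replicate, pev_pord l, pev, List.map, List.prod_cons]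
    ring

theorem pev_nonneg (hx : 0 ≤ x) : ∀ p : List ℤ, (∀ c ∈ p, 0 ≤ c) → 0 ≤ pev p x
  | [], _ => le_rfl
  | c :: p, h => add_nonneg (h c (by simp))
    (mul_nonneg hx (pev_nonneg hx p fun c hc => h c (by simp [hc])))

theorem pev_eq_zero : ∀ p : List ℤ, (∀ c ∈ p, c = 0) → pev p x = 0
  | [], _ => rfl
  | c :: p, h => by simp [pev, h c (by simp), pev_eq_zero p fun c hc => h c (by simp [hc])]

/-- the certificate check -/
def certOK (c : ℤ) (N A B : List ℤ) (ds : List ℕ) (R : ℤ) (a b lo : ℕ) : Bool :=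
  allL (padd [-R] (padd (pmul B (pord ds)) (pmul A (c :: N)))) (· == 0) &&
  allL (padd [-(|c ^ a * R| + 1)] (pshift b (c :: N))) (fun c => decide (0 ≤ c)) &&
  (c ^ a * R != 0) && allLt b fun q => decide (q < lo) ||
    ((q : ℤ) ^ a * (ds.map fun d => (q : ℤ) ^ d - 1).prod % pev (c :: N) q != 0)

theorem not_dvd_of_cert {c R : ℤ} {N A B : List ℤ} {ds : List ℕ} {a b lo : ℕ}
    (h : certOK c N A B ds R a b lo = true) {q : ℕ} (hq : lo ≤ q) :
    ¬ pev (c :: N) q ∣ (q : ℤ) ^ a * (ds.map fun d => (q : ℤ) ^ d - 1).prod := fun hd => by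
  simp only [certOK, Bool.and_eq_true, allL_iff, allLt_iff, beq_iff_eq, decide_eq_true_eq,
    bne_iff_ne, Bool.or_eq_true] at h
  obtain ⟨⟨⟨h1, h2⟩, h3⟩, h4⟩ := h
  by_cases hb : q < b
  · exact (h4 q hb).elim hq.not_gt fun h => h (Int.emod_eq_zero_of_dvd hd)
  have h5 := pev_eq_zero (x := q) _ h1
  have h6 := pev_nonneg (x := q - b) (by omega) _ h2
  simp only [pev_padd, pev_pmul, pev_pshift, pev_pord, add_sub_cancel] at h5 h6
  have h7 : pev (c :: N) q ∣ c ^ a - (-q * pev N q) ^ a :=
    Dvd.dvd.trans (by simp [pev]) (sub_dvd_pow_sub_pow _ _ _)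
  have h8 : pev (c :: N) q ∣ c ^ a * R := by
    rw [show c ^ a * R = (c ^ a - (-q * pev N q) ^ a) * (pev B q * (ds.map fun d => (q : ℤ) ^ d - 1).prod)
      + (-pev N q) ^ a * pev B q * (q ^ a * (ds.map fun d => (q : ℤ) ^ d - 1).prod) +
      c ^ a * pev A q * pev (c :: N) q by
        rw [show -q * pev N q = -pev N q * q by ring, mul_pow]
        simp only [pev] at h5 ⊢; linear_combination -(c ^ a) * h5]
    exact dvd_add (dvd_add (h7.mul_right _) (hd.mul_left _)) (dvd_mul_left _ _)
  have := Int.le_abs_of_dvd h3 h8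
  simp only [pev] at h6 this
  omega

end Cfsg.Agent.RD
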