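import Cfsg.Agent.Lib.RD.C
import Cfsg.Agent.Lib.Char.Central

/-!
Lower bounds for dimensions from chains of long roots.
-/

set_option autoImplicit false

namespace Cfsg.Agent.RD

open Module Cfsg.Agent.Deg Cfsg.Agent.Chev Finset

variable {ι I : Type*} [Fintype I] [DecidableEq I] {R : RSys ι I} {α β γ δ k r s : ι} {i j : I}
  {G V : Type*} [Group G] [AddCommGroup V] [Module ℂ V] {ρ : G →* End ℂ V}
  {P : PreRGD R G} {E N : Set ι} {l : G → ℂ} {W : Submodule ℂ V} {g : G} {v : V} [Finite G]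

theorem Fx_stab (hN : Nm R N δ) : P.X δ ≤ stabSub ρ (Fx ρ P N) := fun g hg w hw =>
  mem_Fx.2 fun r hr a ha => by
    have h1 : g⁻¹ * a * g⁻¹⁻¹ * a⁻¹ ∈ Tr ρ (Fx ρ P N) := (USub_le_iff (X := P.X)
      (K := Tr ρ (Fx ρ P N))).2 (fun k hk x hx w hw => mem_Fx.1 hw k ((hN r hr).2 hk) x hx) (P.comm δ r (hN r hr).1 _ (inv_mem hg) a ha)
    nth_rw 2 [← h1 w hw]
    nth_rw 2 [← mem_Fx.1 hw r hr a ha]
    rw [← rep_mul, ← rep_mul, ← rep_mul]
    congr 2; group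

variable (ρ W) in
/-- the action of the stabiliser on a subspace -/
def resRep : stabSub ρ W →* End ℂ W where
  toFun g := (ρ g).restrict g.2
  map_one' := by ext; simp
  map_mul' a b := LinearMap.ext fun w => Subtype.ext (rep_mul a.1 b.1 w.1)

theorem resRep_eq_one {g : stabSub ρ W} (h : resRep ρ W g = 1) : g.1 ∈ Tr ρ W := fun w hw =>
  congrArg Subtype.val (LinearMap.congr_fun h ⟨w, hw⟩)

theorem min_deg [FiniteDimensional ℂ V] {b : ℕ} (h : ∀ (k : ℕ) (τ : Representation ℂ G (Fin k → ℂ)),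
    τ.IsIrreducible → 2 ≤ k → b ≤ k) {x y : G} (h1 : ρ (x * y * x⁻¹ * y⁻¹) ≠ 1) :
    b ≤ finrank ℂ V := by
  have := Char.isChar_induction (P := fun χ => χ (x * y * x⁻¹ * y⁻¹) = χ 1 ∨ ∃ n : ℕ, χ 1 = n ∧ b ≤ n)
    (Or.inl rfl) ?_ ?_ (Char.isCharacter_of_rep ρ)
  · obtain ⟨n, h2, h3⟩ := this.resolve_left fun e => h1 (Char.rep_eq_one_of_character_eq ρ e)
    rw [Representation.char_one, Nat.cast_inj] at h2
    omega
  · rintro _ ⟨k, τ, h2, rfl⟩
    by_cases h3 : 2 ≤ k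
    · exact Or.inr ⟨k, by simp, h k τ h2 h3⟩
    · have := comm_mem_Tr (ρ := τ) (W := ⊤) (x := x) (y := y) (by simp; omega) (fun _ _ => trivial)
        fun _ _ => trivial
      left
      rw [Representation.character, Representation.character,
        show τ (x * y * x⁻¹ * y⁻¹) = τ 1 from LinearMap.ext fun w => by simpa using this w trivial]
  · intro χ ψ h2 h3 h4 h5
    obtain ⟨n, hn⟩ := Char.exists_nat_degree h2
    obtain ⟨m, hm⟩ := Char.exists_nat_degree h3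
    have e : (χ + ψ) 1 = (n + m : ℕ) := by simp [hn, hm]
    rcases h4 with h4 | ⟨n', h4, h6⟩
    · rcases h5 with h5 | ⟨m', h5, h6⟩
      · left; simp [h4, h5]
      · rw [hm, Nat.cast_inj] at h5; exact Or.inr ⟨_, e, by omega⟩
    · rw [hn, Nat.cast_inj] at h4; exact Or.inr ⟨_, e, by omega⟩

omit [Finite G] in
theorem X_le_ker_map {w : Equiv.Perm ι} (hw : w ∈ R.W) (h : P.X (w r) ≤ ρ.ker) : P.X r ≤ ρ.ker :=
  fun x hx => by simpa [mul_assoc] using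
    (MonoidHom.normal_ker ρ).conj_mem _ (h (P.nW_conj_X hw r hx)) (P.nW w)⁻¹

theorem dvd_card {k : ℕ} {τ : Representation ℂ G (Fin k → ℂ)} (h : τ.IsIrreducible) :
    k ∣ Nat.card G := Char.degree_dvd_card ⟨k, τ, h, rfl⟩ (by simp)

namespace LD
variable (L : LD P) [FiniteDimensional ℂ V]
include L

theorem reach (hE : ∀ e ∈ E, R.ht e = 1) {S : Set ι} {q m : ℕ} (hS : ∀ α ∈ S, Lg R α ∧
      R.IsPos α ∧ (α = R.simple j ∨ ∃ i, (∀ e ∈ E, R.sref i e = e) ∧ 0 < R.pair (R.simple i) α ∧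
        R.sref i α ∈ S ∧ Nat.card (P.X (R.simple i)) = q ^ (R.pair (R.simple i) α).toNat))
    (hl : NT P (R.simple j) l) (hm : m ≤ finrank ℂ (WS ρ P (NE R E (R.simple j)) (R.simple j) l)) :
    ∀ α ∈ S, ∃ l, NT P α l ∧ q ^ (R.ht α - 1).toNat * m ≤ finrank ℂ (WS ρ P (NE R E α) α l) := by
  intro α hα
  induction h : (R.ht α).toNat using Nat.strong_induction_on generalizing α with
  | _ n ih =>
  obtain ⟨h1, h2, rfl | ⟨i, h3, h4, h5, h6⟩⟩ := hS α hα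
  · exact ⟨l, hl, by simpa using hm⟩
  have h7 := R.ht_sref i α
  have h8 := (hS _ h5).2.1.ht_pos
  obtain ⟨l', a1, a2⟩ := ih _ (by omega) _ h5 rfl
  obtain ⟨l'', a3, a4⟩ := L.up (ρ := ρ) hE h3 (hS _ h5).1 (hS _ h5).2.1 (by
    rw [← R.refl_simple, R.pair_refl_right, R.pair_self]; omega) a1
  rw [R.sref_sref] at a3 a4
  refine ⟨l'', a3, le_trans ?_ ((Nat.mul_le_mul_left _ a2).trans a4)⟩
  rw [h6, ← mul_assoc, ← pow_add]
  exact Nat.mul_le_mul_right _ (le_of_eq (congrArg _ (by omega)))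

theorem chain_ht (hE : ∀ e ∈ E, R.ht e = 1) (S : Finset ι) (hSE : ∀ α ∈ S, α ∉ E) {q : ℕ}
    (hS : ∀ α ∈ S, Lg R α ∧ R.IsPos α ∧ Nat.card (P.X α) = q ∧ (α = R.simple j ∨ ∃ i,
      (∀ e ∈ E, R.sref i e = e) ∧ 0 < R.pair (R.simple i) α ∧
        R.sref i α ∈ S ∧ Nat.card (P.X (R.simple i)) = q ^ (R.pair (R.simple i) α).toNat))
    (hl : NT P (R.simple j) l) (hm : 1 ≤ finrank ℂ (WS ρ P (NE R E (R.simple j)) (R.simple j) l)) :
    finrank ℂ (Fx ρ P S) + ∑ α ∈ S, (q - 1) * q ^ (R.ht α - 1).toNat ≤ finrank ℂ V := by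
  have h := L.reach hE (S := S) (fun α hα => ⟨(hS α hα).1, (hS α hα).2.1, (hS α hα).2.2.2⟩) hl hm
  have := L.chain (ρ := ρ) R.ht (NE R E) (fun α => q ^ (R.ht α - 1).toNat) S
    (fun α hα => ⟨(hS α hα).1, by simpa using h α hα⟩)
    fun α _ β hβ h1 h2 => mem_NE_of_ht (hS β hβ).2.1 h1 h2 (hSE β hβ)
  rwa [sum_congr rfl fun α hα => by rw [(hS α hα).2.2.1]] at this

end LD

end Cfsg.Agent.RD
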