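import Cfsg.Agent.Lib.RD.D
import Cfsg.Agent.Lib.RD.Cert
import Cfsg.Agent.Lib.Chev.LenConj
import Cfsg.Agent.Lib.Chev.Poincare
import Cfsg.Agent.Lib.SLn.Steinberg3

/-!
Degrees of complex representations of simply laced Chevalley groups.
-/

set_option autoImplicit false

namespace Cfsg.Agent.RD

open Module Cfsg.Agent.Deg Cfsg.Agent.Chev Cfsg.Agent.ChevM Cfsg.Lie Finset

variable {D : ChevalleyDatum} [Tab D] {F : Type*} [Field F] [Finite F]

theorem tor_of_pair {α r : Fin D.nroots} (h : (rs D).pair r α = 1) : ∃ s : Finset (D.group F),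
    s.card + 1 = Nat.card ((PG D F).X α) ∧ (∀ h ∈ s, h ∈ (PG D F).H) ∧ ∀ h ∈ s, ∀ h' ∈ s, h ≠ h' →
      ∀ z ∈ (PG D F).X α, ∃ y ∈ (PG D F).X α, z = h⁻¹ * y * h * (h'⁻¹ * y * h')⁻¹ := by
  classical
  have := Fintype.ofFinite F
  have e : ∀ t : F, t ≠ 0 → ∀ u, (hElt D (xG D F) r t)⁻¹ * xG D F α u * hElt D (xG D F) r t =
      xG D F α (t⁻¹ * u) := fun t ht u => by
    have := (r7_xG D F).h_conj_x (stRel_xG D F) r α ht (t⁻¹ * u)
    rw [h, zpow_one, mul_inv_cancel_left₀ ht] at this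
    rw [← this]; group
  refine ⟨(univ.erase 0).image (hElt D (xG D F) r), ?_, ?_, ?_⟩
  · rw [card_image_of_injOn fun t ht t' ht' h => ?_, card_erase_add_one (mem_univ _), card_X,
      card_univ, Nat.card_eq_fintype_card]
    have h1 := e t (ne_of_mem_erase ht) 1
    rw [h, e t' (ne_of_mem_erase ht')] at h1
    simpa using (xG_injective α.2 h1).symm
  · simp only [mem_image, mem_erase]
    rintro _ ⟨t, ht, rfl⟩
    exact hElt_mem_H r ht.1
  · simp only [mem_image, mem_erase]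
    rintro _ ⟨t, ht, rfl⟩ _ ⟨t', ht', rfl⟩ h1 z hz
    obtain ⟨u, rfl⟩ := mem_X_iff.1 hz
    have h2 : t⁻¹ - t'⁻¹ ≠ 0 := sub_ne_zero.2 fun e => h1 (by rw [inv_injective e])
    refine ⟨_, mem_X_iff.2 ⟨(t⁻¹ - t'⁻¹)⁻¹ * u, rfl⟩, ?_⟩
    rw [e t ht.1, e t' ht'.1, xG_inv, xG_add, ← sub_eq_add_neg, ← sub_mul, mul_inv_cancel_left₀ h2]

omit [Finite F] in
theorem comm_xG {a b k : ℕ} {c : ℤ} (ha : a < D.nroots) (hb : b < D.nroots)
    (h : D.commTerms a b = [(k, c, 1, 1)]) (t u : F) :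
    xG D F b u * xG D F a t * (xG D F b u)⁻¹ * (xG D F a t)⁻¹ = xG D F k (-(c * t * u)) := by
  simpa [xG_inv] using (stRel_xG D F).comm_one ha hb h (-t) (-u)

omit [Finite F] in
theorem heis_of_one {α β γ : Fin D.nroots} {c : ℤ} (hc : c = 1 ∨ c = -1)
    (h : D.commTerms γ β = [((α : ℕ), c, 1, 1)]) : ∀ y ∈ (PG D F).X γ, y ≠ 1 →
    ∀ z ∈ (PG D F).X α, ∃ x ∈ (PG D F).X β, z = x * y * x⁻¹ * y⁻¹ := fun y hy h0 z hz => by
  obtain ⟨t, rfl⟩ := mem_X_iff.1 hy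
  obtain ⟨u, rfl⟩ := mem_X_iff.1 hz
  have ht : t ≠ 0 := fun e => h0 (e ▸ xG_zero _)
  refine ⟨_, mem_X_iff.2 ⟨-(c * t⁻¹ * u), rfl⟩, ?_⟩
  rw [comm_xG γ.2 β.2 h]
  congr 1
  rcases hc with rfl | rfl <;> field_simp <;> simp

theorem not_le_ker {k : ℕ} {ρ : Representation ℂ (D.group F) (Fin k → ℂ)} (hρ : ρ.IsIrreducible)
    (hk : 2 ≤ k) : ¬ ∀ r, (PG D F).X r ≤ ρ.ker := fun h => by
  have e : ∀ g, ρ g = 1 := group_induction (map_one ρ) fun r hr t g hg => by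
    rw [map_mul, hg, h ⟨r, hr⟩ (mem_X_iff.2 ⟨t, rfl⟩), mul_one]
  have := finrank_le_one_of_comm ρ hρ fun a b => by rw [e, e]
  simp at this; omega

theorem dvd_order {d : List ℕ} (h : Degrees D d) {n : ℕ} (hn : n ∣ Nat.card (D.group F)) :
    (n : ℤ) ∣ (Nat.card F : ℤ) ^ (D.nroots / 2) * (d.map fun e => (Nat.card F : ℤ) ^ e - 1).prod :=
  h.card_group F ▸ (Int.natCast_dvd_natCast.2 hn).mul_right _

variable (D) in
/-- heights minus one of the roots satisfying a condition -/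
def hts (p : ℕ → Bool) : List ℕ :=
  ((List.range D.nroots).filter p).map fun r => (sumLt D.rank (rcN D r) - 1).toNat

theorem sum_hts (p : ℕ → Bool) (f : ℕ → ℕ) :
    ∑ α : Fin D.nroots with p α.1, f ((rs D).ht α - 1).toNat = ((hts D p).map f).sum := by
  rw [hts, List.map_map, sum_filter]
  refine (Fin.sum_univ_eq_sum_range (fun r => if p r then
    f (RSys.htv (rc D r) - 1).toNat else 0) _).trans ?_
  rw [← sum_filter, sum_eq_multiset_sum]
  simp only [filter_val, range_val, Multiset.range, Multiset.filter_coe, Multiset.map_coe,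
    Multiset.sum_coe, Bool.decide_eq_true, Function.comp_def, sumLt_eq, listSum_eq_finSum]
  rfl

variable [SLaced D]

theorem lg_sl (r : Fin D.nroots) : Lg (rs D) r := fun s h => by
  by_cases e : s = (rs D).neg r
  · simp [e]
  · have := SLaced.pair_cases h e; omega

theorem ld_sl : LD (PG D F) where
  ne r := ⟨_, mem_X_iff.2 ⟨1, rfl⟩, by simp [xG_eq_one_iff r.2]⟩
  heis _ h _ := by
    obtain ⟨c, hc, h⟩ := SLaced.commTerms_eq (h.trans (add_comm _ _))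
    exact heis_of_one hc h
  tor {α} _ := (SLaced.exists_pair_one α).elim fun _ => tor_of_pair

variable (D) in
/-- the conditions on a node -/
def NodeOK (j n : ℕ) : Prop :=
  (∀ r < D.nroots, D.nroots ≤ 2 * r → D.cartan j r ≤ 0 → ∃ i < D.rank,
    D.cartan j (D.simple i) = 0 ∧ (D.cartan i r = 1 ∨ D.cartan i r = -1) ∨
      D.cartan j (D.simple i) = -1 ∧ D.cartan i r = 1 ∧ D.cartan j r = -1) ∧
  (hts D fun r => D.nroots ≤ 2 * r ∧ D.cartan j r = 1).length = n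

set_option synthInstance.maxSize 1000 in
instance decNodeOK (j n : ℕ) : Decidable (NodeOK D j n) := by unfold NodeOK; infer_instance

variable {k : ℕ} {ρ : Representation ℂ (D.group F) (Fin k → ℂ)}

theorem exists_node (hρ : ρ.IsIrreducible) (hk : 2 ≤ k) {j : Fin D.rank} {n : ℕ}
    (h : NodeOK D j n) (hk' : k < 3 * ((Nat.card F - 1) * Nat.card F ^ n)) :
    ∃ l, NT (PG D F) ((rs D).simple j) l ∧ 1 ≤ finrank ℂ
      (WS ρ (PG D F) (NE (rs D) ∅ ((rs D).simple j)) ((rs D).simple j) l) := by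
  classical
  obtain ⟨l, h1, h2, h3⟩ := ld_sl.base (ρ := ρ) (lg_sl ((rs D).simple j)) fun h =>
    not_le_ker hρ hk fun r => by
      obtain ⟨w, hw, e⟩ := exists_W_of_len_eq (r := r) (s := (rs D).simple j)
        (by rw [rs_len, rs_len, SLaced.len_eq, SLaced.len_eq])
      exact X_le_ker_map hw (e ▸ h)
  have h4 := sum_hts (D := D) (fun r => D.nroots ≤ 2 * r ∧ D.cartan j r = 1) fun _ => 1
  rw [prod_congr rfl fun β _ => card_X β, prod_const, finrank_fin_fun, show #{β | β ∈ Hk (rs D) j} = n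
    by simpa [Hk, rs_isPos_iff_le, rs_pair_simple, ← h.2] using h4, card_X] at h3
  refine ⟨l, h1, h2.trans_le (Submodule.finrank_mono (ld_sl.sl_tr lg_sl (Nat.le_of_lt_succ
    (lt_of_mul_lt_mul_left (a := (Nat.card F - 1) * Nat.card F ^ n) (by
      rw [mul_assoc, mul_comm _ (Nat.succ 2)]; exact h3.trans_lt hk') (Nat.zero_le _)))
    fun δ a b => ?_))⟩
  obtain ⟨i, hi, c⟩ := h.1 δ δ.2 ((rs_isPos_iff_le δ).1 a) (rs_pair_simple j δ ▸ b)
  exact ⟨⟨i, hi⟩, by simpa only [rs_C, rs_pair_simple] using c⟩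

variable (D) in
/-- the conditions on a Levi subgroup of type `A` -/
def LeviOK (j : ℕ) (n : ℕ) (r : Fin n → Fin n → ℕ) (e : Fin n → Fin n → ℤ) : Prop :=
  (∀ a b, r a b < D.nroots ∧ rcN D (r a b) j = 0) ∧
  (∀ a b c d, a ≠ b → c ≠ d → a ≠ d → b ≠ c → r c d = r a b ∨ D.pairing (r a b) (r c d) = 0 ∨
    D.pairing (r a b) (r c d) = 1) ∧
  (∀ a b c, a ≠ b → b ≠ c → a ≠ c →
    D.commTerms (r b c) (r a b) = [(r a c, -(e a b * e b c * e a c), 1, 1)]) ∧
  (∀ a b, e a b = 1 ∨ e a b = -1) ∧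
  ∀ s < D.nroots, 1 ≤ rcN D s j → s = D.simple j ∨ ∃ i < D.rank, D.cartan i s = 1 ∧
    (i = j → 2 ≤ rcN D s j)

set_option synthInstance.maxSize 1000 in
instance decLeviOK (j : ℕ) (n : ℕ) (r : Fin n → Fin n → ℕ) (e : Fin n → Fin n → ℤ) :
    Decidable (LeviOK D j n r e) := by unfold LeviOK; infer_instance

theorem sl_bound (hρ : ρ.IsIrreducible) (hk : 2 ≤ k) {j j' : Fin D.rank} {m n b : ℕ}
    (h : NodeOK D j m) (h' : NodeOK D j' m) (hk' : k < 3 * ((Nat.card F - 1) * Nat.card F ^ m))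
    {r : Fin (n + 3) → Fin (n + 3) → ℕ} {e : Fin (n + 3) → Fin (n + 3) → ℤ}
    (hL : LeviOK D j (n + 3) r e) (h0 : r 0 1 = D.simple j') (hj : j ≠ j') [DecidableEq F]
    (hb : ∀ (k : ℕ) (τ : Representation ℂ (Matrix.SpecialLinearGroup (Fin (n + 3)) F) (Fin k → ℂ)),
      τ.IsIrreducible → 2 ≤ k → b ≤ k) {hl : List ℕ} (he : (hts D fun r => 1 ≤ rcN D r j) = hl) :
    b + (hl.map fun a => (Nat.card F - 1) * Nat.card F ^ a).sum ≤ k := by
  subst he
  obtain ⟨l, h1, h2⟩ := exists_node hρ hk h hk'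
  obtain ⟨l', ⟨z, hz, h3⟩, h4⟩ := exists_node hρ hk h' hk'
  obtain ⟨a1, a2, a3, a4, a5⟩ := hL
  let S : Finset (Fin D.nroots) := {α | decide (1 ≤ rcN D α.1 j)}
  have hS : ∀ α, α ∈ S ↔ 1 ≤ (rs D).rc α j := fun α => by simp [S]; rfl
  have h5 := ld_sl.chain_ht (ρ := ρ) (E := ∅) (by simp) S (by simp) (q := Nat.card F) (fun α hα =>
    ⟨lg_sl _, RSys.isPos_of_coord (i := j) ((hS α).1 hα), card_X _, by
      refine (a5 α α.2 ((hS α).1 hα)).imp Fin.ext fun ⟨i, hi, c1, c2⟩ => ⟨⟨i, hi⟩, by simp,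
        by simp [rs_pair_simple, c1], (hS _).2 ?_, by simp [rs_pair_simple, c1, card_X]⟩
      have := (hS α).1 hα
      rw [(rs D).rc_sref, rs_pair_simple, c1, one_smul, Pi.sub_apply, Pi.single_apply]
      split_ifs with c
      · have : 2 ≤ (rs D).rc α j := c2 (congrArg Fin.val c).symm
        omega
      · omega⟩) h1 h2
  rw [sum_hts (fun r => 1 ≤ rcN D r j) fun a => (Nat.card F - 1) * Nat.card F ^ a,
    finrank_fin_fun] at h5
  refine le_trans (Nat.add_le_add_right ?_ _) h5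
  have st : ∀ a b (t : F), xG D F (r a b) t ∈ stabSub ρ (Fx ρ (PG D F) S) := fun a b t =>
    Fx_stab (δ := ⟨_, (a1 a b).1⟩) (fun s hs => by
      have c0 : (rs D).rc ⟨_, (a1 a b).1⟩ j = 0 := (a1 a b).2
      have c1 := (hS s).1 hs
      refine ⟨fun e => by simp [e, RSys.rc_neg, c0] at c1, fun k ⟨x, y, hx, hy, e⟩ => (hS k).2 ?_⟩
      simp only [e, Pi.add_apply, Pi.smul_apply, c0, smul_eq_mul]; nlinarith) (mem_X_iff.2 ⟨t, rfl⟩)
  have hy : SLn.StR fun a b (t : F) => (⟨_, st a b (e a b * t)⟩ : stabSub ρ (Fx ρ (PG D F) S)) :=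
    ⟨fun _ t u => Subtype.ext (by simp [xG_add, mul_add]), fun {a b c d} c1 c2 c3 c4 t u =>
      Subtype.ext (by
        rcases a2 a b c d c1 c2 c3 c4 with c5 | c5
        · simp [c5, xG_add, add_comm]
        · rw [← rs_pair ⟨_, (a1 a b).1⟩ ⟨_, (a1 c d).1⟩] at c5
          exact (stRel_xG D F).commute_of_not_root (SLaced.ne_neg_of_pair (by omega))
            (SLaced.not_root_of_pair (r := ⟨_, (a1 a b).1⟩) (s := ⟨_, (a1 c d).1⟩) (by omega)) _ _),
      fun {a b c} c1 c2 c3 t u => Subtype.ext ((comm_xG (a1 b c).1 (a1 a b).1 (a3 a b c c1 c2 c3)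
        _ _).trans (congrArg _ (by
          rcases a4 a b with c4 | c4 <;> rcases a4 b c with c5 | c5 <;> simp [c4, c5] <;> ring)))⟩
  obtain ⟨f, hf⟩ := hy.exists_hom (by simp)
  obtain ⟨t, rfl⟩ := mem_X_iff.1 hz
  have c1 : (0 : Fin (n + 3)) ≠ 1 := by simp
  have c2 : (0 : Fin (n + 3)) ≠ 2 := by simp [Fin.ext_iff, Nat.mod_eq_of_lt]
  have c3 : (2 : Fin (n + 3)) ≠ 1 := by simp [Fin.ext_iff, Nat.mod_eq_of_lt]
  refine min_deg (ρ := (resRep ρ _).comp f) hb (x := SLn.xSL 0 2 (e 0 1 * t)) (y := SLn.xSL 2 1 1)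
    fun c4 => h3 ?_
  rw [SLn.stR_xSL.step c2 c3 c1, MonoidHom.comp_apply, hf _ _ c1] at c4
  obtain ⟨v, hv, v0⟩ := (Submodule.ne_bot_iff _).1 (mt Submodule.finrank_eq_zero.2 (by omega) :
    WS ρ (PG D F) (NE (rs D) ∅ ((rs D).simple j')) ((rs D).simple j') l' ≠ ⊥)
  have c5 : ρ (xG D F _ _) v = v := resRep_eq_one c4 v (Fx_mono (N := NE (rs D) ∅ _) (fun s hs => ⟨RSys.isPos_of_coord (i := j) ((hS s).1 hs),
    fun c => by have := c j; have := (hS s).1 hs; simp [RSys.rc_simple, hj] at *; omega, id⟩) hv.1)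
  rw [h0, show (e 0 1 : F) * (e 0 1 * t * 1) = t by rcases a4 0 1 with c | c <;> simp [c]] at c5
  exact smul_left_injective ℂ v0 (((mem_WS.1 hv).2 _ hz).symm.trans (c5.trans (one_smul _ _).symm))

end Cfsg.Agent.RD
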