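import Cfsg.Agent.Lib.RD.D
import Cfsg.Agent.Lib.Chev.RGD2

/-!
One-dimensional weight spaces in the presence of short roots.
-/

set_option autoImplicit false

namespace Cfsg.Agent.RD

open Module Cfsg.Agent.Deg Cfsg.Agent.Chev Finset

variable {ι I : Type*} [Fintype I] [DecidableEq I] {R : RSys ι I} {α β γ δ k r s : ι} {i j : I}
  {G V : Type*} [Group G] [AddCommGroup V] [Module ℂ V] {ρ : G →* End ℂ V}
  {P : PreRGD R G} {E N : Set ι} {l : G → ℂ} {W : Submodule ℂ V} {g : G} {v : V} [Finite G]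

variable (P) in
/-- torus elements centralising the long root subgroups -/
def ST : Prop := ∀ δ, ¬ Lg R δ → ∃ h ∈ P.H, (∀ α, Lg R α → ∀ x ∈ P.X α, x * h = h * x) ∧
  ∀ z ∈ P.X δ, ∃ y ∈ P.X δ, z = h * y * h⁻¹ * y⁻¹

theorem ST.tr [FiniteDimensional ℂ V] (S : ST P) (hα : Lg R α) (hδ : ¬ Lg R δ)
    (hW : finrank ℂ (WS ρ P N α l) ≤ 1) (h : P.X δ ≤ stabSub ρ (WS ρ P N α l)) :
    P.X δ ≤ Tr ρ (WS ρ P N α l) := fun z hz => by
  obtain ⟨g, h1, h2, h3⟩ := S δ hδ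
  obtain ⟨y, hy, rfl⟩ := h3 z hz
  exact comm_mem_Tr hW (H_mem_stab h1 (h2 α hα)) (h hy)

variable (R) in
/-- positive or negative simple roots orthogonal to a simple root -/
def G0 (j : I) (β : ι) : Prop :=
  (R.IsPos β ∨ ∃ i, β = R.neg (R.simple i)) ∧ R.pair (R.simple j) β = 0

theorem LD.one_tr (L : LD P) [FiniteDimensional ℂ V] (S : ST P) (ha : Lg R (R.simple j))
    (hW : finrank ℂ (WS ρ P (Hk R j) (R.simple j) l) ≤ 1) (rk : ι → ℕ)
    (h0 : ∀ δ, R.IsPos δ → R.pair (R.simple j) δ = 0 → Lg R δ → ∃ β γ,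
      R.rc δ = R.rc β + R.rc γ ∧ R.pair δ β = 1 ∧ G0 R j β ∧ G0 R j γ)
    (h1 : ∀ δ, R.IsPos δ → R.pair (R.simple j) δ = -1 → δ ∉ E → (Lg R δ ∧ ∃ β γ,
      R.rc δ = R.rc β + R.rc γ ∧ R.pair δ β = 1 ∧ G0 R j β ∧ R.IsPos γ ∧
        (Lg R γ ∨ γ ∉ E ∧ rk γ < rk δ)) ∨ ¬ Lg R δ ∧ ∀ k, R.IsPos k → R.pair (R.simple j) k = -1 →
          R.rc δ + R.rc (R.simple j) ≤ R.rc k → k ∉ E ∧ rk k < rk δ) :
    WS ρ P (Hk R j) (R.simple j) l ≤ WS ρ P (NE R E (R.simple j)) (R.simple j) l := by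
  have k0 : ∀ δ, R.IsPos δ → R.pair (R.simple j) δ = 0 →
      P.X δ ≤ Tr ρ (WS ρ P (Hk R j) (R.simple j) l) := fun δ a b => by
    by_cases c : Lg R δ
    · obtain ⟨β, γ, c1, c2, c3, c4⟩ := h0 δ a b c
      exact L.tr_comm c c1 c2 (st0 ha c3.1 c3.2) (st0 ha c4.1 c4.2) (Or.inr (Or.inr hW))
    · exact S.tr ha c hW (st0 ha (Or.inl a) b)
  have k1 : ∀ δ, R.IsPos δ → R.pair (R.simple j) δ = -1 → δ ∉ E →
      P.X δ ≤ Tr ρ (WS ρ P (Hk R j) (R.simple j) l) := fun δ => by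
    induction h : rk δ using Nat.strong_induction_on generalizing δ with
    | _ n ih =>
    intro a b c
    rcases h1 δ a b c with ⟨c0, β, γ, c1, c2, c3, c4, c5⟩ | ⟨c0, c1⟩
    · have c6 : R.pair (R.simple j) γ = -1 := by have := pair_add c1 (R.simple j); have := c3.2; omega
      refine L.tr_comm c0 c1 c2 (st0 ha c3.1 c3.2) ?_ (Or.inr (Or.inr hW))
      rcases c5 with c5 | c5
      exacts [st1 ha c4 c6 k0 (Or.inl c5), (ih _ (h ▸ c5.2) γ rfl c4 c6 c5.1).trans Tr_le_stab]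
    · exact S.tr ha c0 hW (st1 ha a b k0 (Or.inr fun k d1 d2 d3 =>
        ih _ (h ▸ (c1 k d1 d2 d3).2) k rfl d1 d2 (c1 k d1 d2 d3).1))
  refine WS_le_of_Tr fun r hr => ?_
  have := ha r fun e => hr.2.1 (e ▸ le_rfl)
  have := ha.neg_le (ne_neg_of_pos hr.1 (R.isPos_simple j))
  obtain h7 | h7 | h7 : R.pair (R.simple j) r = 1 ∨ R.pair (R.simple j) r = 0 ∨
    R.pair (R.simple j) r = -1 := by omega
  exacts [X_le_Tr ⟨hr.1, h7⟩, k0 r hr.1 h7, k1 r hr.1 h7 hr.2.2]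

theorem ST.le_ker [Fintype ι] [DecidableEq ι] (S : ST P) (hP : P.Nondeg) (hf : P.full = ⊤)
    (hg : P.US Set.univ = ⊤) (hα : Lg R α) (hα' : ¬ R.IsPos α) (hc : ∀ i, R.rc α i ≠ 0)
    (h : ∀ r, Lg R r → P.X r ≤ ρ.ker) (r : ι) : P.X r ≤ ρ.ker := by
  let π := QuotientGroup.mk' ρ.ker
  have h1 : ρ.ker ⊔ P.B = ⊤ := by
    obtain ⟨x, hx, h0⟩ := (Subgroup.bot_or_exists_ne_one _).resolve_left (hP.X_ne_bot α)
    have e := hP.eq_PJ_of_B_le (K := ρ.ker ⊔ P.B) le_sup_right (hf ▸ le_top)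
    have := hP.inSub_of_X_mem_PJ hα' hx h0 (e ▸ Subgroup.mem_sup_left (h α hα hx))
    rw [e, Set.eq_univ_of_forall fun i => by_contra fun hi => hc i (this i hi)]
    exact hf
  have h2 : ∀ g, ∀ u ∈ P.U, π (g * u * g⁻¹) ∈ P.U.map π := fun g u hu => by
    obtain ⟨k, hk, b, hb, rfl⟩ := (Subgroup.normal_mul ρ.ker P.B).subset (h1.ge (Subgroup.mem_top g))
    refine ⟨_, (Subgroup.mem_normalizer_iff.1 (P.B_le_normalizer_U hb) u).1 hu, ?_⟩
    simp [π, (QuotientGroup.eq_one_iff k).2 hk]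
  have hn : ∀ r, ¬ R.IsPos r → R.IsPos (R.refl r r) := fun r hr => by
    rw [R.refl_self]; exact RSys.isPos_neg_iff.2 hr
  have h3 : ∀ g, π g ∈ P.U.map π := fun g => (USub_le_iff (K := (P.U.map π).comap π)).2
    (fun r _ x hx => by
      by_cases hr : R.IsPos r
      · exact ⟨x, P.X_le_U hr hx, rfl⟩
      · simpa [mul_assoc] using h2 (P.nW (R.refl r))⁻¹ _
          (P.X_le_U (hn r hr) (P.nW_conj_X (R.refl_mem_W r) r hx))) (hg.ge (Subgroup.mem_top g))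
  have h4 : ∀ r, R.IsPos r → P.X r ≤ ρ.ker := by
    by_contra h4
    push Not at h4
    obtain ⟨δ, ⟨a1, a2⟩, a3⟩ := Set.exists_max_image {r | R.IsPos r ∧ ¬ P.X r ≤ ρ.ker} R.ht
      (Set.toFinite _) h4
    obtain ⟨g, -, -, a4⟩ := S δ fun e => a2 (h δ e)
    obtain ⟨u, hu, e⟩ := h3 g
    refine a2 fun z hz => (QuotientGroup.eq_one_iff z).1 ?_
    obtain ⟨y, hy, rfl⟩ := a4 z hz
    have : Commute (π u) (π y) := USub_induction (C := fun u => Commute (π u) (π y)) hu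
      (fun r hr x hx => commutatorElement_eq_one_iff_commute.1 ((QuotientGroup.eq_one_iff _).2
        (USub_le_iff.2 (fun k hk => by_contra fun c => by
          have := a3 k ⟨hr.of_mem_intv a1 hk, c⟩
          have := ht_lt_of_intv hr a1 hk
          have := RSys.IsPos.ht_pos hr
          omega) (P.comm r δ (ne_neg_of_pos a1 hr) x hx y hy))))
      (by simp) fun a b _ _ ha hb => by simpa using ha.mul_left hb
    rw [e] at this
    exact commutatorElement_eq_one_iff_commute.2 this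
  by_cases hr : R.IsPos r
  · exact h4 r hr
  · exact X_le_ker_map (R.refl_mem_W r) (h4 _ (hn r hr))

end Cfsg.Agent.RD
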