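import Cfsg.Agent.Lib.RD.E
import Cfsg.Agent.Lib.RD.F
import Cfsg.Agent.Lib.Tw.Inst
import Cfsg.Agent.Lib.Tw.Fold2
import Cfsg.Agent.Lib.Ord.Twisted

/-!
The relative root datum of the twisted groups.
-/

set_option autoImplicit false

namespace Cfsg.Agent.RD

open Module Cfsg.Agent.Deg Cfsg.Agent.Chev Cfsg.Lie Finset

theorem tor_abs {F G : Type*} [Field F] [Finite F] [Group G] {X H : Subgroup G} (e : F → G)
    (he : ∀ g, g ∈ X ↔ ∃ t, g = e t) (hi : Function.Injective e) (ha : ∀ t u, e (t + u) = e t * e u)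
    (hc : ∀ t ≠ 0, ∃ c ∈ H, ∀ u, c * e u * c⁻¹ = e (t * u)) :
    ∃ s : Finset G, s.card + 1 = Nat.card X ∧ (∀ h ∈ s, h ∈ H) ∧ ∀ h ∈ s, ∀ h' ∈ s, h ≠ h' →
      ∀ z ∈ X, ∃ y ∈ X, z = h⁻¹ * y * h * (h'⁻¹ * y * h')⁻¹ := by
  classical
  have := Fintype.ofFinite F
  choose! c h1 h2 using hc
  have h3 : ∀ t ≠ 0, ∀ u, (c t)⁻¹ * e u * c t = e (t⁻¹ * u) := fun t ht u => by
    rw [← mul_inv_cancel_left₀ ht u, ← h2 t ht, inv_mul_cancel_left₀ ht]; group
  refine ⟨(univ.erase 0).image c, ?_, ?_, ?_⟩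
  · rw [card_image_of_injOn fun t ht t' ht' h => ?_, card_erase_add_one (mem_univ _), card_univ,
      ← Nat.card_eq_fintype_card]
    · exact Nat.card_congr (Equiv.ofBijective (fun t => ⟨e t, (he _).2 ⟨t, rfl⟩⟩)
        ⟨fun t u h => hi (congrArg Subtype.val h), fun g => ((he _).1 g.2).imp fun t h =>
          Subtype.ext h.symm⟩)
    · have := h2 t (ne_of_mem_erase ht) 1
      rw [h, h2 t' (ne_of_mem_erase ht')] at this
      simpa using (hi this).symm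
  · simp only [mem_image, mem_erase]
    rintro _ ⟨t, ht, rfl⟩
    exact h1 t ht.1
  · simp only [mem_image, mem_erase]
    rintro _ ⟨t, ht, rfl⟩ _ ⟨t', ht', rfl⟩ h4 z hz
    obtain ⟨u, rfl⟩ := (he _).1 hz
    have h5 : t⁻¹ - t'⁻¹ ≠ 0 := sub_ne_zero.2 fun e => h4 (by rw [inv_injective e])
    refine ⟨_, (he _).2 ⟨(t⁻¹ - t'⁻¹)⁻¹ * u, rfl⟩, ?_⟩
    rw [h3 t ht.1, h3 t' ht'.1, eq_mul_inv_iff_mul_eq, ← ha]
    rw [← sub_eq_iff_eq_add.1 (show _ - _ = u by rw [← sub_mul, mul_inv_cancel_left₀ h5])]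

theorem dl_mul {G : Type*} [Group G] {σ : G →* G} {A : ℕ → Subgroup G}
    (hA : ∀ j, ∀ a ∈ A j, σ a ∈ A (j + 1)) {m : ℕ}
    (hc : ∀ j, 0 < j → j < m → ∀ a ∈ A 0, ∀ b ∈ A j, b * a = a * b) {a b : G} (ha : a ∈ A 0)
    (hb : b ∈ A 0) : ∀ n ≤ m, dl σ n (a * b) = dl σ n a * dl σ n b
  | 0, _ => by simp
  | n + 1, hn => by
    have := dl_mem hA (B := Subgroup.centralizer {b}) (k := n) (j := 1) (fun i hi c h =>
      Subgroup.mem_centralizer_singleton_iff.2 (hc _ (by omega) (by omega) b hb c h)) (hA 0 a ha)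
    rw [← map_dl σ fun _ => rfl, Subgroup.mem_centralizer_singleton_iff] at this
    rw [dl_succ, dl_succ, dl_succ, dl_mul hA hc ha hb n (by omega), map_mul, mul_assoc, mul_assoc,
      ← mul_assoc b, ← this, mul_assoc]

section field
variable {K : Type*} [Field K] {φ : K →+* K} {k q : ℕ}

theorem exists_trace (hφk : ∀ t, φ^[k] t = t) (hne : ∃ w, ∑ j ∈ range k, φ^[j] w ≠ 0) {s : K}
    (hs : φ s = s) : ∃ w, ∑ j ∈ range k, φ^[j] w = s := by
  obtain ⟨w, hw⟩ := hne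
  have h1 : φ (∑ j ∈ range k, φ^[j] w) = ∑ j ∈ range k, φ^[j] w := by
    have := (sum_range_succ' (φ^[·] w) k).symm.trans (sum_range_succ _ k)
    rw [hφk] at this
    simpa [map_sum, Function.iterate_succ_apply'] using this
  refine ⟨s / (∑ j ∈ range k, φ^[j] w) * w, ?_⟩
  rw [sum_congr rfl fun j _ => by rw [iterate_map_mul, Function.iterate_fixed
    (by rw [map_div₀, hs, h1])], ← mul_sum, div_mul_cancel₀ _ hw]

variable [Finite K] (hφ : ∀ t, φ t = t ^ q) (hK : Nat.card K = q ^ k) (hq : 1 < q)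
include hφ hK hq

theorem exists_trace_ne (hk : 0 < k) : ∃ w, ∑ j ∈ range k, φ^[j] w ≠ 0 := by
  have h1 : ∀ j t, φ^[j] t = t ^ q ^ j := fun j t => by
    induction j with
    | zero => simp
    | succ j ih => rw [Function.iterate_succ_apply', ih, hφ, ← pow_mul, pow_succ]
  obtain ⟨w, hw⟩ := Polynomial.exists_eval_ne_zero_of_natDegree_lt_card
    (∑ j ∈ range k, Polynomial.X ^ q ^ j : Polynomial K) (fun e => by
      have := congrArg (Polynomial.coeff · 1) e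
      simp only [Polynomial.finsetSum_coeff, Polynomial.coeff_X_pow] at this
      rw [sum_eq_single 0 (fun j _ hj => if_neg (Nat.one_lt_pow hj hq).ne) (by simp [hk])] at this
      simp at this) (by
      rw [← Nat.cast_card, Nat.cast_lt, hK]
      refine (Polynomial.natDegree_sum_le_of_forall_le _ _ (n := q ^ (k - 1)) fun j hj => ?_).trans_lt
        (Nat.pow_lt_pow_right hq (by omega))
      rw [Polynomial.natDegree_X_pow]
      exact Nat.pow_le_pow_right hq.le (by have := mem_range.1 hj; omega))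
  exact ⟨w, by simpa [h1, Polynomial.eval_finsetSum] using hw⟩

theorem exists_norm_one (hk : 2 ≤ k) (hφk : ∀ t, φ^[k] t = t) :
    ∃ t : K, t ≠ 0 ∧ t ^ 2 ≠ 1 ∧ ∏ j ∈ range k, φ^[j] t = 1 := by
  obtain ⟨s, hs⟩ := exists_zpow_ne_one (K := K) (n := (q - 1) * 2) fun h => by
    have h1 := Int.le_of_dvd (by omega) h
    have h2 : (q : ℤ) ^ 2 ≤ q ^ k := pow_le_pow_right₀ (by omega) hk
    rw [hK] at h1; push_cast at h1; nlinarith
  have h1 : ∀ m, ∏ j ∈ range m, φ^[j] (φ s / s) = φ^[m] s / s := fun m => by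
    induction m with
    | zero => simp
    | succ m ih =>
      rw [prod_range_succ, ih, ← RingHom.coe_pow, map_div₀, RingHom.coe_pow, mul_comm,
        div_mul_div_cancel₀ (by rw [← RingHom.coe_pow]; exact (map_ne_zero _).2 s.ne_zero), Function.iterate_succ_apply]
  refine ⟨φ s / s, by simp, fun e => hs (Units.ext ?_), by rw [h1, hφk, div_self s.ne_zero]⟩
  rw [zpow_mul, zpow_sub_one, zpow_natCast]
  simpa [hφ, div_eq_mul_inv] using e

end field

/-- the nodes over a given node -/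
def orbL (D : ChevalleyDatum) (ψ : ℕ → ℕ) (a : ℕ) : List (Fin D.rank) :=
  (List.finRange D.rank).filter fun i => ψ i = a

variable (D D' : ChevalleyDatum) (T : TwData) (k : ℕ) (f ψ rep : ℕ → ℕ) in
/-- the combinatorial conditions for folding -/
def FoldOK : Prop :=
  (∀ r < D.nroots, f r < D'.nroots ∧ f (T.π r) = f r ∧ (∀ a < D'.rank,
    rcN D' (f r) a = (sumLt D.rank fun i => if ψ i = a then rcN D r i else 0) ∧
    f (wordN D ((orbL D ψ a).map Fin.val) r) = D'.reflectRoot a (f r)) ∧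
    (∀ s < D.nroots, f s = f r → ∃ j < kr T k r, s = T.π^[j] r) ∧
    (T.π r = r ↔ ∀ s < D'.nroots, s ≠ f r → D'.pairing (f r) s ≤ 1) ∧
    (T.π r = r → (∀ s < D.nroots, D'.pairing (f r) (f s) = D.pairing r s) ∧
      ∃ s < D.nroots, T.π s = s ∧ D.pairing s r = 1) ∧
    ∀ s < D.nroots, ∀ p ∈ D.chainEntry r s, T.π p.1 = p.1 → kr T k s = kr T k r ∧ ∀ j < kr T k r,
      0 < j → ∀ a ∈ [r, s], ∀ b ∈ [r, s], 0 ≤ D.pairing (T.π^[j] a) b) ∧
  (∀ i < D.rank, ψ i < D'.rank ∧ ∃ j < k, T.ν^[j] (rep (ψ i)) = i) ∧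
  ∀ a < D'.rank, rep a < D.rank ∧ ψ (rep a) = a ∧
    D'.reflectRoot a (f (D.simple (rep a))) ≠ f (D.simple (rep a)) ∧ (allLt D.nroots fun r => Nat.beq
    (T.π (wordN D ((orbL D ψ a).map Fin.val) r))
    (wordN D ((orbL D ψ a).map Fin.val) (T.π r))) = true

set_option synthInstance.maxSize 2000 in
instance decFoldOK (D D' : ChevalleyDatum) (T : TwData) (k : ℕ) (f ψ rep : ℕ → ℕ) :
    Decidable (FoldOK D D' T k f ψ rep) := by unfold FoldOK; infer_instance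

variable {D D' : ChevalleyDatum} [Tab D] [Tab D'] {T : TwData} {k : ℕ} {f ψ rep : ℕ → ℕ}
  {K G : Type*} [Field K] [Group G] {x : ℕ → K → G} {φ : K →+* K} {σ : G →* G}

theorem lg_iff {r : Fin D.nroots} : Lg (rs D) r ↔ ∀ s < D.nroots, s ≠ r → D.pairing r s ≤ 1 :=
  ⟨fun h s hs e => rs_pair r ⟨s, hs⟩ ▸ h _ fun e' => e (congrArg Fin.val e'),
    fun h s e => rs_pair r s ▸ h s s.2 fun e' => e (Fin.ext e')⟩

namespace FoldOK
variable (C : FoldOK D D' T k f ψ rep) (h : IsTw D T x φ σ)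

/-- the projection to the relative root system -/
noncomputable def fm : FoldMap h.fold (rs D') where
  φ r := ⟨f r, (C.1 r r.2).1⟩
  ψ i := ⟨ψ i, (C.2.1 i i.2).1⟩
  rep a := ⟨rep a, (C.2.2 a a.2).1⟩
  ψ_rep a := Fin.ext (C.2.2 a a.2).2.1
  mem_orb i := let ⟨j, _, e⟩ := (C.2.1 i i.2).2; h.mem_orb_of j e
  rc_φ r a := by
    refine ((C.1 r r.2).2.2.1 a a.2).1.trans ?_
    rw [sumLt_eq, listSum_eq_finSum, sum_filter]
    exact sum_congr rfl fun i _ => if_congr (by simp [Fin.ext_iff]) rfl rfl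
  φ_ρ r := Fin.ext (C.1 r r.2).2.1
  φ_s a r := by
    have e : ∀ r : Fin D.nroots, f ((rs D).wordW (orbL D ψ a) r) =
        ((rs D').sref a ⟨f r, (C.1 r r.2).1⟩ : Fin _) := fun r => by
      rw [wordW_val, ((C.1 r r.2).2.2.1 a a.2).2, ← reflectRoot_eq]
    rcases Fold.eq_one_or_s (h.wordW_mem_WF _ (C.2.2 a a.2).2.2.2) (i := ⟨rep a, (C.2.2 a a.2).1⟩)
      (RSys.wordW_mem_WJ _ fun i hi => by
        obtain ⟨j, -, e⟩ := (C.2.1 i i.2).2
        exact h.mem_orb_of j (by simpa [show ψ i = a by simpa [orbL] using hi] using e)) with e' | e'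
    · have h1 := e ((rs D).simple ⟨rep a, (C.2.2 a a.2).1⟩)
      rw [e', ← reflectRoot_eq] at h1
      exact ((C.2.2 a a.2).2.2.1 h1.symm).elim
    · exact Fin.ext (e' ▸ e r)

theorem lg_fm {r : Fin D.nroots} : Lg (rs D') ((C.fm h).φ r) ↔ T.π r = r :=
  lg_iff.trans (C.1 r r.2).2.2.2.2.1.symm

variable (P : Per D T k) {Γ : Type*} [Group Γ] {e : Γ →* G} (E : h.fold.Emb e)
include P

theorem fiber (r : Fin D.nroots) : (C.fm h).φ ⁻¹' {(C.fm h).φ r} = h.fold.O r (kr T k r) :=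
  Set.ext fun s => ⟨fun hs => ((C.1 r r.2).2.2.2.1 s s.2 (congrArg Fin.val hs)).imp fun j e =>
    ⟨e.1, Fin.ext (e.2.trans (h.tw.ρ_pow_val j r).symm)⟩, by
      rintro ⟨j, -, rfl⟩
      induction j with
      | zero => rfl
      | succ j ih => rw [pow_succ']; exact ((C.fm h).φ_ρ _).trans ih⟩

theorem mem_X {r : Fin D.nroots} {g : Γ} : g ∈ ((C.fm h).pre E).X ((C.fm h).φ r) ↔
    ∃ t ∈ Chev.Fx T k φ r, e g = dl σ (kr T k r) (x r t) := by
  rw [FoldMap.mem_X, C.fiber h P]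
  refine ⟨fun hg => ?_, fun ⟨t, _, e⟩ => e ▸ (h.orbOK P r).dl_mem_O (x_mem_XS _ t)⟩
  obtain ⟨t, h1, rfl⟩ := h.exists_Y E (h.orbOK P r) hg
  exact ⟨t, (h.fix_iff P r t).1 h1, h.map_Y E (h.orbOK P r) h1⟩

theorem Y_mem {r : Fin D.nroots} {t : K} (ht : t ∈ Chev.Fx T k φ r) :
    h.Y E r (kr T k r) t ∈ ((C.fm h).pre E).X ((C.fm h).φ r) :=
  (C.mem_X h P E).2 ⟨t, ht, h.map_Y' P E r ht⟩

omit [Tab D'] in
include h in
theorem _root_.Cfsg.Agent.RD.dl_inj (r : Fin D.nroots) :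
    Function.Injective fun t => dl σ (kr T k r) (x r t) := fun t u e => by
  have := (h.sl2d_dl (h.orbOK P r)).x_add (t - u) u
  rw [sub_add_cancel, show dl σ _ (x r t) = _ from e, right_eq_mul] at this
  exact sub_eq_zero.1 (h.chv.eq_zero ((h.orbOK P r).eq_one_of_dl h.chv.nondeg (x_mem_XS _ _) this))

theorem card_X (r : Fin D.nroots) :
    Nat.card (((C.fm h).pre E).X ((C.fm h).φ r)) = Nat.card (Chev.Fx T k φ r) :=
  (Nat.card_congr (Equiv.ofBijective (fun t => ⟨_, C.Y_mem h P E t.2⟩) ⟨fun t u e => Subtype.ext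
    (dl_inj h P r ((h.map_Y' P E r t.2).symm.trans ((congrArg _ (congrArg Subtype.val e)).trans
      (h.map_Y' P E r u.2)))), fun g => let ⟨t, h1, h2⟩ := (C.mem_X h P E).1 g.2
        ⟨⟨t, h1⟩, Subtype.ext (E.inj ((h.map_Y' P E r h1).trans h2.symm))⟩⟩)).symm

omit [Tab D'] in
include h in
theorem _root_.Cfsg.Agent.RD.σ_fix {r : Fin D.nroots} (hr : T.π r = r) (t : K) :
    σ (x r t) = x r (φ t) := by simpa [kr_fix hr] using h.iter_kr P r t

omit [Tab D'] in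
include h in
theorem _root_.Cfsg.Agent.RD.dl_fix {r : Fin D.nroots} (hr : T.π r = r) (t : K) (m : ℕ) :
    dl σ m (x r t) = x r (∑ j ∈ range m, φ^[j] t) := by
  induction m with
  | zero => simp [h.chv.rel.zero r.2]
  | succ m ih => simp [dl_succ, ih, σ_fix h P hr, h.chv.rel.add _ _ _ r.2, sum_range_succ', add_comm,
      Function.iterate_succ_apply']

theorem mem_X_fix {r : Fin D.nroots} (hr : T.π r = r) {g : Γ} :
    g ∈ ((C.fm h).pre E).X ((C.fm h).φ r) ↔ ∃ t, φ t = t ∧ e g = x r t := by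
  simp [C.mem_X h P E, Chev.mem_Fx, kr_fix hr]

omit P in
theorem gen (hf : e.range ≤ h.fold.gen) : ((C.fm h).pre E).US Set.univ = ⊤ :=
  eq_top_iff.2 fun g _ => by
    obtain ⟨g', h1, h2⟩ := (Subgroup.closure_le ((((C.fm h).pre E).US Set.univ).map e)).2 (by
      rintro u ⟨h1, i, h2 | h2⟩
      · obtain ⟨g, rfl⟩ := E.exists_U (PreRGD.UL_le_U _ _ h2) h1
        exact ⟨g, USub_mono (Set.subset_univ _) (((C.fm h).mem_U E).2 (PreRGD.UL_le_U _ _ h2)), rfl⟩
      · obtain ⟨g, rfl⟩ := E.exists_V (PreRGD.VL_le_V _ h2) h1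
        exact ⟨g, USub_mono (Set.subset_univ _) (((C.fm h).mem_V E).2 (PreRGD.VL_le_V _ h2)), rfl⟩)
      (hf ⟨g, rfl⟩)
    exact E.inj h2 ▸ h1

variable (hφk : ∀ t, φ^[k] t = t)
include hφk

theorem st (hN : ∃ t : K, t ≠ 0 ∧ t ^ 2 ≠ 1 ∧ ∏ j ∈ range k, φ^[j] t = 1) : ST ((C.fm h).pre E) := by
  intro δ hδ
  obtain ⟨r, rfl⟩ := (C.fm h).surj δ
  obtain ⟨t, h1, h2, h3⟩ := hN
  have hr := kr_ne (k := k) (mt (C.lg_fm h).2 hδ)
  have hr' : kr T k ((rs D).neg r) = k := kr_ne fun e => mt (C.lg_fm h).2 hδ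
    (by simpa [neg_neg_idx r.2, neg_neg_idx (h.tw.lt r r.2)] using
      congrArg D.neg ((h.tw.neg r r.2).symm.trans e))
  have hY : ∀ r : Fin D.nroots, kr T k r = k → e ∘ h.Y E r k = fun t => dl σ k (x r t) :=
    fun r e => funext fun t => by
      simpa [e] using h.map_Y' P E r (t := t) (by rw [Chev.mem_Fx, e]; exact hφk t)
  have hk := hr ▸ h.orbOK P r
  have h4 : e (sl2h (h.Y E r k) (h.Y E ((rs D).neg r) k) t) = dl σ k (hElt D x r t) := by
    rw [map_sl2h, hY r hr, hY _ hr', h.sl2h_dl hk]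
  refine ⟨_, ((C.fm h).mem_H E).2 (h4 ▸ dl_mem' h.fold.σ_H k (h_mem_HS r h1)), fun α hα y hy =>
    E.inj ?_, fun z hz => ?_⟩
  · obtain ⟨a, rfl⟩ := (C.fm h).surj α
    have ha := (C.lg_fm h).1 hα
    obtain ⟨u, hu, h5⟩ := (C.mem_X_fix h P E ha).1 hy
    have key : ∀ m, dl σ m (hElt D x r t) * x a u * (dl σ m (hElt D x r t))⁻¹ =
        x a ((∏ j ∈ range m, φ^[j] t) ^ (rs D).pair r a * u) := fun m => by
      induction m with
      | zero => simp
      | succ m ih =>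
        have := congrArg σ ih
        rw [map_mul, map_mul, map_inv, σ_fix h P ha, σ_fix h P ha, hu] at this
        rw [dl_succ, mul_inv_rev, ← mul_assoc, mul_assoc _ _ (x a u), mul_assoc _ (_ * _), this,
          h.chv.r7.h_conj_x h.chv.rel r a h1]
        simp [prod_range_succ', Function.iterate_succ_apply', hu, mul_zpow, mul_assoc, mul_left_comm]
    have := key k
    rw [h3, one_zpow, one_mul, mul_inv_eq_iff_eq_mul] at this
    rw [map_mul, map_mul, h4, h5, this]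
  · obtain ⟨u, -, h5⟩ := (C.mem_X h P E).1 hz
    have h6 := sub_ne_zero.2 h2
    refine ⟨_, C.Y_mem h P E (t := (t ^ 2 - 1)⁻¹ * u) (by rw [Chev.mem_Fx, hr]; exact hφk _), E.inj ?_⟩
    have h7 := ((h.sl2d_dl hk).acts_h h1).2.1 ((t ^ 2 - 1)⁻¹ * u)
    rw [h.sl2h_dl hk] at h7
    rw [map_mul, map_mul, map_mul, map_inv, map_inv, h4, h5, hr, show e (h.Y E r k _) = _ from
      congrFun (hY r hr) _, h7, eq_mul_inv_iff_mul_eq, ← (h.sl2d_dl hk).x_add]
    congr 2; field_simp; ring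

theorem ld [Finite K] [SLaced D] (hne : ∃ w, ∑ j ∈ range k, φ^[j] w ≠ 0) : LD ((C.fm h).pre E) where
  ne r := (Subgroup.bot_or_exists_ne_one _).resolve_left (((C.fm h).pre_nondeg E).X_ne_bot r)
  heis {α β γ} hα h1 h2 y hy h0 z hz := by
    obtain ⟨a, rfl⟩ := (C.fm h).surj α
    obtain ⟨b, rfl⟩ := (C.fm h).surj β
    have ha := (C.lg_fm h).1 hα
    have h3 : (rs D).pair b a = 1 := by
      rw [SLaced.pair_comm, rs_pair, ← ((C.1 a a.2).2.2.2.2.2.1 ha).1 b b.2, ← h2, rs_pair]; rfl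
    obtain ⟨c, hc⟩ := RSys.exists_sub_of_pair_pos (R := rs D) (r := b) (s := a) (by omega)
      (by rintro rfl; simp at h3)
    obtain rfl : γ = (C.fm h).φ c := (rs D').rc_inj (by
      rw [(C.fm h).rc_eq c, hc, map_sub, ← FoldMap.rc_eq, ← FoldMap.rc_eq, h1]; abel)
    have h4 : (rs D).rc a = (rs D).rc c + (rs D).rc b := by rw [hc]; abel
    obtain ⟨n, hn, h5⟩ := SLaced.commTerms_eq h4
    obtain ⟨n', -, h6⟩ := SLaced.chainEntry_eq h4
    obtain ⟨h7, h8⟩ := (C.1 c c.2).2.2.2.2.2.2 b b.2 _ (h6 ▸ List.mem_singleton_self _) ha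
    obtain ⟨u, hu, h9⟩ := (C.mem_X h P E).1 hy
    obtain ⟨s, hs, a1⟩ := (C.mem_X_fix h P E ha).1 hz
    have a2 : u ≠ 0 := fun e => h0 (E.inj (by simp [h9, e, h.chv.rel.zero c.2]))
    obtain ⟨w, a3, a4⟩ : ∃ w ∈ Chev.Fx T k φ c, ∑ j ∈ range (kr T k c), φ^[j] w = s := by
      by_cases e : T.π c = c
      · exact ⟨s, by simpa [Chev.mem_Fx, kr_fix e], by simp [kr_fix e]⟩
      · simpa [Chev.mem_Fx, kr_ne e, hφk] using exists_trace hφk hne hs
    have a5 : -(n * u⁻¹ * w) ∈ Chev.Fx T k φ b := by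
      rw [Chev.Fx, h7]; exact neg_mem (mul_mem (mul_mem (intCast_mem _ _) (inv_mem hu)) a3)
    refine ⟨_, C.Y_mem h P E a5, E.inj ?_⟩
    let A := fun j => USub (XS D x) {(h.tw.ρ ^ j) c, (h.tw.ρ ^ j) b}
    have a6 := @dl_mul _ _ σ A (fun j a ha => h.fold.σ_US (by
      rintro _ (rfl | rfl) <;> simp [pow_succ']) ha) (kr T k c) fun j b1 b2 v hv v' hv' => by
        refine USub_induction (C := fun v => v' * v = v * v') hv (fun r hr v hv => ?_) (by simp)
          fun _ _ _ _ c1 c2 => by rw [← mul_assoc, c1, mul_assoc, c2, mul_assoc]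
        refine USub_induction (C := fun v' => v' * v = v * v') hv' (fun r' hr' v' hv' => ?_) (by simp)
          fun _ _ _ _ c1 c2 => by rw [mul_assoc, c2, ← mul_assoc, c1, mul_assoc]
        obtain ⟨t, rfl⟩ := h.chv.rel.mem_XS_iff.1 hv
        obtain ⟨t', rfl⟩ := h.chv.rel.mem_XS_iff.1 hv'
        have : 0 ≤ (rs D).pair r' r := by
          rw [rs_pair]
          rcases hr with rfl | rfl <;> rcases hr' with rfl | rfl <;> rw [h.tw.ρ_pow_val] <;>
            exact h8 j b2 b1 _ (by simp) _ (by simp)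
        exact h.chv.rel.commute_of_not_root (SLaced.ne_neg_of_pair (by omega))
          (SLaced.not_root_of_pair this) _ _
    let d : A 0 →* G := MonoidHom.mk' (fun a => dl σ (kr T k c) a) fun a b => a6 a.2 b.2 _ le_rfl
    have a7 := map_commutatorElement d ⟨x b (-(n * u⁻¹ * w)), x_mem_USub (by simp) _⟩
      ⟨x c u, x_mem_USub (by simp) _⟩
    have a8 := h.chv.rel.comm_one c.2 b.2 h5 (-u) (n * u⁻¹ * w)
    rw [h.chv.rel.inv c.2, neg_neg, h.chv.rel.inv b.2, show -(n * -u * (n * u⁻¹ * w)) = w by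
      rcases hn with rfl | rfl <;> field_simp <;> simp] at a8
    rw [map_mul, map_mul, map_mul, map_inv, map_inv, h.map_Y' P E b a5, h7, h9, a1, ← a4,
      ← dl_fix h P ha, ← a8]
    simpa [d, commutatorElement_def, h.chv.rel.inv c.2, h.chv.rel.inv b.2] using a7
  tor {α} hα := by
    obtain ⟨a, rfl⟩ := (C.fm h).surj α
    have ha := (C.lg_fm h).1 hα
    obtain ⟨r, h1, h2, h3⟩ := ((C.1 a a.2).2.2.2.2.2.1 ha).2
    have hF : ∀ t : Chev.Fx T k φ a, φ t = t := fun t => by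
      have := t.2; rwa [Chev.mem_Fx, kr_fix ha] at this
    have hY := fun t => h.map_Y_one P E a.2 ha (hF t)
    refine tor_abs (F := Chev.Fx T k φ a) (fun t => h.Y E a 1 t) (fun g => ?_)
      (fun t u e => Subtype.ext (h.chv.x_injective a (by rw [← hY, ← hY]; exact congrArg _ e)))
      (fun t u => E.inj (by rw [map_mul, hY, hY, hY, h.chv.rel.add _ _ _ a.2]; rfl)) fun t ht => ?_
    · rw [C.mem_X_fix h P E ha]
      exact ⟨fun ⟨t, c1, c2⟩ => ⟨⟨t, by simpa [Chev.mem_Fx, kr_fix ha]⟩, E.inj (c2.trans (h.map_Y_one P E a.2 ha c1).symm)⟩,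
        fun ⟨t, c⟩ => ⟨t, hF t, c ▸ hY t⟩⟩
    have h4 : ∀ t, φ t = t → nElt D x r t ∈ e.range := fun t ht => by
      have c : ∀ s < D.nroots, T.π s = s → ∀ t, φ t = t → x s t ∈ e.range := fun s c1 c2 t c3 =>
        ⟨_, h.map_Y_one P E c1 c2 c3⟩
      exact nElt_def (x := x) r t ▸ mul_mem (mul_mem (c r h1 h2 t ht) (c _ (neg_lt h1)
        (by rw [h.tw.neg r h1, h2]) _ (by simp [ht]))) (c r h1 h2 t ht)
    obtain ⟨g, hg⟩ := hElt_def (x := x) r t ▸ mul_mem (h4 t (hF t)) (h4 (-1) (by simp))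
    have ht' : (t : K) ≠ 0 := by simpa using ht
    refine ⟨g, ((C.fm h).mem_H E).2 (hg ▸ h_mem_HS ⟨r, h1⟩ ht'), fun u => E.inj ?_⟩
    rw [map_mul, map_mul, map_inv, hY, hY, hg, h.chv.r7.h_conj_x h.chv.rel ⟨r, h1⟩ a ht', rs_pair, h3,
      zpow_one]; rfl

end FoldOK

end Cfsg.Agent.RD
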