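import Cfsg.Agent.Lib.RD.G

/-!
One-dimensional weight spaces for twisted groups.
-/

set_option autoImplicit false

namespace Cfsg.Agent.RD

open Module Cfsg.Agent.Deg Cfsg.Agent.Chev Cfsg.Lie Finset

variable {D D' : ChevalleyDatum} [Tab D] [Tab D'] {T : TwData} {k q : ℕ} {f ψ rep : ℕ → ℕ} {c : ℤ}
  {K G : Type*} [Field K] [Group G] {x : ℕ → K → G} {φ : K →+* K} {σ : G →* G}
  {Γ : Type*} [Group Γ] [Finite Γ]

/-- the properties of the relative root datum -/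
structure TW (P : PreRGD (rs D') Γ) (q k : ℕ) (c : ℤ) : Prop where
  lg : ∀ r, Lg (rs D') r ↔ len D' r = c
  ld : LD P
  st : ST P
  card : ∀ r, Nat.card (P.X r) = q ^ if len D' r = c then 1 else k
  ker : ∀ {n : ℕ} {ρ : Representation ℂ Γ (Fin n → ℂ)}, ρ.IsIrreducible → 2 ≤ n →
    ∀ r : Fin D'.nroots, len D' r = c → ¬ P.X r ≤ ρ.ker

theorem FoldOK.tw [Finite K] [SLaced D] (C : FoldOK D D' T k f ψ rep) (h : IsTw D T x φ σ)
    (P : Per D T k) {e : Γ →* G} (E : h.fold.Emb e) (hf : e.range ≤ h.fold.gen)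
    (hφ : ∀ t, φ t = t ^ q) (hφk : ∀ t, φ^[k] t = t) (hK : Nat.card K = q ^ k) (hq : 1 < q)
    (hk : 2 ≤ k) (hl : ∀ r < D'.nroots, (∀ s < D'.nroots, s ≠ r → D'.pairing r s ≤ 1) ↔ len D' r = c)
    (h0 : 0 < D'.nroots ∧ len D' 0 = c ∧ ∀ i < D'.rank, rcN D' 0 i ≠ 0) :
    TW ((C.fm h).pre E) q k c := by
  have lg : ∀ r, Lg (rs D') r ↔ len D' r = c := fun r => lg_iff.trans (hl r r.2)
  have st := C.st h P E hφk (exists_norm_one hφ hK hq hk hφk)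
  refine ⟨lg, C.ld h P E hφk (exists_trace_ne hφ hK hq (by omega)), st, fun α => ?_,
    fun {n ρ} hρ hn r hr h1 => ?_⟩
  · obtain ⟨r, rfl⟩ := (C.fm h).surj α
    rw [C.card_X h P E]
    split_ifs with h1
    · rw [pow_one, ← OrdB.ncard_pow_eq_self hK hq, ← Nat.card_coe_set_eq]
      exact Nat.card_congr (Equiv.subtypeEquivRight fun t => by
        simp [Chev.mem_Fx, kr_fix ((C.lg_fm h).1 ((lg _).2 h1)), hφ])
    · rw [← hK]
      exact Nat.card_congr (Equiv.subtypeUnivEquiv fun t => by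
        rw [Chev.mem_Fx, kr_ne (mt (C.lg_fm h).2 (mt (lg _).1 h1)), hφk])
  have h2 := st.le_ker (ρ := ρ) ((C.fm h).pre_nondeg E) ((C.fm h).pre_full E) (C.gen h E hf)
    ((lg ⟨0, h0.1⟩).2 h0.2.1) (by simp [rs_isPos_iff_le, h0.1.ne']) (fun i => h0.2.2 i i.2)
    fun s hs => by
      obtain ⟨w, hw, e⟩ := exists_W_of_len_eq (r := s) (s := r) (((lg s).1 hs).trans hr.symm)
      exact X_le_ker_map hw (e ▸ h1)
  have e : ∀ g, ρ g = 1 := fun g =>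
    USub_le_iff.2 (fun r _ => h2 r) ((C.gen h E hf).ge (Subgroup.mem_top g))
  have := finrank_le_one_of_comm ρ hρ fun a b => by rw [e, e]
  simp at this; omega

theorem TW.node {P : PreRGD (rs D') Γ} (W : TW P q k c) {n m : ℕ}
    {ρ : Representation ℂ Γ (Fin n → ℂ)} (hρ : ρ.IsIrreducible) (hn : 2 ≤ n) {j : Fin D'.rank}
    (hj : len D' (D'.simple j) = c ∧ (∑ β ∈ univ.filter fun β : Fin D'.nroots =>
      D'.nroots ≤ 2 * β.1 ∧ D'.cartan j β = 1, if len D' β.1 = c then 1 else k) = m) (hm : n < 2 * ((q - 1) * q ^ m)) :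
    ∃ l, NT P ((rs D').simple j) l ∧ finrank ℂ (WS ρ P (Hk (rs D') j) ((rs D').simple j) l) = 1 := by
  classical
  obtain ⟨l, h1, h2, h3⟩ := W.ld.base (ρ := ρ) ((W.lg _).2 hj.1) (W.ker hρ hn _ hj.1)
  rw [prod_congr rfl fun β _ => W.card β, prod_pow_eq_pow_sum, W.card, rs_simple_val, if_pos hj.1, pow_one,
    finrank_fin_fun, sum_congr (s₂ := univ.filter fun β : Fin D'.nroots => D'.nroots ≤ 2 * β.1 ∧ D'.cartan j β = 1)
      (by simp [Hk, rs_isPos_iff_le, rs_pair_simple]) fun _ _ => rfl, hj.2, ← mul_assoc] at h3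
  exact ⟨l, h1, le_antisymm (Nat.le_of_lt_succ (lt_of_mul_lt_mul_left
    (mul_comm 2 _ ▸ h3.trans_lt hm) (Nat.zero_le _))) h2⟩

variable (D') in
/-- the combinatorial conditions for a long node -/
def OneOK (c : ℤ) (k : ℕ) (j : Fin D'.rank) (E S : List ℕ) (rk : ℕ → ℕ) : Prop :=
  (∀ δ : Fin D'.nroots, D'.nroots ≤ 2 * δ.1 → D'.cartan j δ = 0 → len D' δ = c →
    ∃ β : Fin D'.nroots, D'.pairing δ β = 1 ∧ D'.cartan j β = 0 ∧ ∃ γ : Fin D'.nroots,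
      rc D' δ = rc D' β + rc D' γ ∧ ∀ s ∈ [β, γ], D'.nroots ≤ 2 * s.1 ∨
        ∃ i, s = (rs D').neg ((rs D').simple i)) ∧
  (∀ δ : Fin D'.nroots, D'.nroots ≤ 2 * δ.1 → D'.cartan j δ = -1 → δ.1 ∉ E → (len D' δ = c ∧
    ∃ β : Fin D'.nroots, D'.pairing δ β = 1 ∧ D'.cartan j β = 0 ∧ (D'.nroots ≤ 2 * β.1 ∨
      ∃ i, β = (rs D').neg ((rs D').simple i)) ∧ ∃ γ : Fin D'.nroots, rc D' δ = rc D' β + rc D' γ ∧
        D'.nroots ≤ 2 * γ.1 ∧ (len D' γ = c ∨ γ.1 ∉ E ∧ rk γ < rk δ)) ∨ len D' δ ≠ c ∧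
    ∀ s : Fin D'.nroots, D'.nroots ≤ 2 * s.1 → D'.cartan j s = -1 →
      (∀ i, rc D' δ i + rc D' (D'.simple j) i ≤ rc D' s i) → s.1 ∉ E ∧ rk s < rk δ) ∧
  (∀ e ∈ E, ∑ i, rc D' e i = 1) ∧ ∀ α ∈ S, len D' α = c ∧ D'.nroots ≤ 2 * α ∧ (α = D'.simple j ∨
    ∃ i : Fin D'.rank, (∀ e ∈ E, D'.reflectRoot i e = e) ∧ 0 < D'.cartan i α ∧
      D'.reflectRoot i α ∈ S ∧ (if len D' (D'.simple i) = c then 1 else k) = (D'.cartan i α).toNat)

set_option synthInstance.maxSize 2000 in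
instance decOneOK (c : ℤ) (k : ℕ) (j : Fin D'.rank) (E S : List ℕ) (rk : ℕ → ℕ) :
    Decidable (OneOK D' c k j E S rk) := by unfold OneOK; infer_instance

theorem TW.reach {P : PreRGD (rs D') Γ} (W : TW P q k c) {V : Type*} [AddCommGroup V] [Module ℂ V]
    [FiniteDimensional ℂ V] {ρ : Γ →* End ℂ V} {j : Fin D'.rank} {l : Γ → ℂ} {E S : List ℕ}
    {rk : ℕ → ℕ} (C : OneOK D' c k j E S rk) (hj : len D' (D'.simple j) = c)
    (hl : NT P ((rs D').simple j) l)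
    (h : finrank ℂ (WS ρ P (Hk (rs D') j) ((rs D').simple j) l) = 1) (α : Fin D'.nroots)
    (hα : α.1 ∈ S) : ∃ l, NT P α l ∧
      q ^ ((rs D').ht α - 1).toNat ≤ finrank ℂ (WS ρ P (NE (rs D') {e | e.1 ∈ E} α) α l) := by
  obtain ⟨h0, h1, h2, h3⟩ := C
  have := W.ld.reach (ρ := ρ) (E := {e : Fin D'.nroots | e.1 ∈ E})
    (S := {e : Fin D'.nroots | e.1 ∈ S}) (q := q) (m := 1)
    (fun e he => h2 e he) (fun α hα => ?_) hl (h.ge.trans (Submodule.finrank_mono (W.ld.one_tr W.st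
      ((W.lg _).2 hj) h.le (fun r => rk r) (fun δ a b c => ?_) fun δ a b c => ?_))) α hα
  · simpa using this
  · obtain ⟨a, b, c⟩ := h3 α hα
    refine ⟨(W.lg _).2 a, (rs_isPos_iff_le α).2 b, c.imp Fin.ext fun ⟨i, c1, c2, c3, c4⟩ =>
      ⟨i, fun e he => Fin.ext ((reflectRoot_eq i e).symm.trans (c1 e he)), ?_, ?_, ?_⟩⟩
    · rwa [rs_pair_simple]
    · rwa [reflectRoot_eq] at c3
    · rw [W.card, rs_pair_simple, ← c4]; rfl
  · obtain ⟨β, b1, b2, γ, b3, b4⟩ := h0 δ ((rs_isPos_iff_le δ).1 a) (rs_pair_simple j δ ▸ b)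
      ((W.lg _).1 c)
    rw [← rs_pair_simple] at b2
    simp only [← rs_isPos_iff_le] at b4
    exact ⟨β, γ, b3, rs_pair δ β ▸ b1, ⟨b4 β (by simp), b2⟩, b4 γ (by simp), by
      have := pair_add (R := rs D') b3 ((rs D').simple j); omega⟩
  · simp only [G0, W.lg, rs_isPos_iff_le, rs_pair_simple] at *
    refine (h1 δ a b c).imp (fun ⟨b0, β, b1, b2, b3, γ, b4⟩ => ⟨b0, β, γ, b4.1, rs_pair δ β ▸ b1,
      ⟨b3, b2⟩, b4.2⟩) id

end Cfsg.Agent.RD
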