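import Cfsg.Agent.Lib.RD.E
import Cfsg.Agent.Lib.Tw.Graph

/-!
Weight spaces of root subgroups in complex representations of `G₂(q)`.
-/

set_option autoImplicit false

namespace Cfsg.Agent.RD.G2

open Module Cfsg.Agent.Deg Cfsg.Agent.Chev Cfsg.Agent.ChevM Cfsg.Lie Finset

/-- the commutator table -/
def ct : ℕ → ℕ → List (ℕ × ℤ × ℕ × ℕ)
  | 0, 6 => [(1, 1, 1, 1)]
  | 0, 8 => [(2, 1, 1, 1), (4, 1, 1, 2), (6, -1, 1, 3), (1, -2, 2, 3)]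
  | 0, 9 => [(3, -1, 1, 1), (7, -1, 1, 2), (10, -1, 1, 3), (5, 2, 2, 3)]
  | 0, 10 => [(5, -1, 1, 1)]
  | 1, 5 => [(0, 1, 1, 1)]
  | 1, 7 => [(2, 1, 1, 1), (3, -1, 1, 2), (5, 1, 1, 3), (0, 2, 2, 3)]
  | 1, 9 => [(4, -1, 1, 1), (8, 1, 1, 2), (11, 1, 1, 3), (6, -2, 2, 3)]
  | 1, 11 => [(6, -1, 1, 1)]
  | 2, 3 => [(0, 3, 1, 1)]
  | 2, 4 => [(1, 3, 1, 1)]
  | 2, 7 => [(3, -2, 1, 1), (0, -3, 2, 1), (5, 3, 1, 2)]
  | 2, 8 => [(4, 2, 1, 1), (1, 3, 2, 1), (6, -3, 1, 2)]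
  | 2, 10 => [(7, -1, 1, 1), (3, 1, 2, 1), (0, 1, 3, 1), (5, 1, 3, 2)]
  | 2, 11 => [(8, -1, 1, 1), (4, -1, 2, 1), (1, -1, 3, 1), (6, -1, 3, 2)]
  | 3, 2 => [(0, -3, 1, 1)]
  | 3, 4 => [(2, -2, 1, 1), (0, 3, 2, 1), (1, -3, 1, 2)]
  | 3, 6 => [(4, 1, 1, 1), (2, -1, 2, 1), (0, 1, 3, 1), (1, -1, 3, 2)]
  | 3, 7 => [(5, -3, 1, 1)]
  | 3, 9 => [(7, 2, 1, 1), (5, -3, 2, 1), (10, 3, 1, 2)]
  | 3, 11 => [(9, 1, 1, 1), (7, 1, 2, 1), (5, -1, 3, 1), (10, 1, 3, 2)]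
  | 4, 2 => [(1, -3, 1, 1)]
  | 4, 3 => [(2, 2, 1, 1), (1, -3, 2, 1), (0, 3, 1, 2)]
  | 4, 5 => [(3, 1, 1, 1), (2, 1, 2, 1), (1, -1, 3, 1), (0, 1, 3, 2)]
  | 4, 8 => [(6, -3, 1, 1)]
  | 4, 9 => [(8, -2, 1, 1), (6, 3, 2, 1), (11, -3, 1, 2)]
  | 4, 10 => [(9, 1, 1, 1), (8, -1, 2, 1), (6, 1, 3, 1), (11, -1, 3, 2)]
  | 5, 1 => [(0, -1, 1, 1)]
  | 5, 4 => [(3, -1, 1, 1), (2, 1, 1, 2), (1, 1, 1, 3), (0, -2, 2, 3)]
  | 5, 8 => [(7, 1, 1, 1), (9, -1, 1, 2), (11, 1, 1, 3), (10, 2, 2, 3)]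
  | 5, 11 => [(10, 1, 1, 1)]
  | 6, 0 => [(1, -1, 1, 1)]
  | 6, 3 => [(4, -1, 1, 1), (2, -1, 1, 2), (0, -1, 1, 3), (1, 2, 2, 3)]
  | 6, 7 => [(8, 1, 1, 1), (9, 1, 1, 2), (10, -1, 1, 3), (11, -2, 2, 3)]
  | 6, 10 => [(11, 1, 1, 1)]
  | 7, 1 => [(2, -1, 1, 1), (3, -1, 2, 1), (5, -1, 3, 1), (0, -1, 3, 2)]
  | 7, 2 => [(3, 2, 1, 1), (5, 3, 2, 1), (0, -3, 1, 2)]
  | 7, 3 => [(5, 3, 1, 1)]
  | 7, 6 => [(8, -1, 1, 1), (9, 1, 2, 1), (10, 1, 3, 1), (11, 1, 3, 2)]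
  | 7, 8 => [(9, -2, 1, 1), (10, -3, 2, 1), (11, 3, 1, 2)]
  | 7, 9 => [(10, 3, 1, 1)]
  | 8, 0 => [(2, -1, 1, 1), (4, 1, 2, 1), (6, 1, 3, 1), (1, 1, 3, 2)]
  | 8, 2 => [(4, -2, 1, 1), (6, -3, 2, 1), (1, 3, 1, 2)]
  | 8, 4 => [(6, 3, 1, 1)]
  | 8, 5 => [(7, -1, 1, 1), (9, -1, 2, 1), (11, -1, 3, 1), (10, -1, 3, 2)]
  | 8, 7 => [(9, 2, 1, 1), (11, 3, 2, 1), (10, -3, 1, 2)]
  | 8, 9 => [(11, 3, 1, 1)]
  | 9, 0 => [(3, 1, 1, 1), (7, -1, 2, 1), (10, 1, 3, 1), (5, -1, 3, 2)]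
  | 9, 1 => [(4, 1, 1, 1), (8, 1, 2, 1), (11, -1, 3, 1), (6, 1, 3, 2)]
  | 9, 3 => [(7, -2, 1, 1), (10, 3, 2, 1), (5, -3, 1, 2)]
  | 9, 4 => [(8, 2, 1, 1), (11, -3, 2, 1), (6, 3, 1, 2)]
  | 9, 7 => [(10, -3, 1, 1)]
  | 9, 8 => [(11, -3, 1, 1)]
  | 10, 0 => [(5, 1, 1, 1)]
  | 10, 2 => [(7, 1, 1, 1), (3, 1, 1, 2), (0, -1, 1, 3), (5, -2, 2, 3)]
  | 10, 4 => [(9, -1, 1, 1), (8, -1, 1, 2), (6, -1, 1, 3), (11, 2, 2, 3)]
  | 10, 6 => [(11, -1, 1, 1)]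
  | 11, 1 => [(6, 1, 1, 1)]
  | 11, 2 => [(8, 1, 1, 1), (4, -1, 1, 2), (1, 1, 1, 3), (6, 2, 2, 3)]
  | 11, 3 => [(9, -1, 1, 1), (7, 1, 1, 2), (5, 1, 1, 3), (10, -2, 2, 3)]
  | 11, 5 => [(10, -1, 1, 1)]
  | _, _ => []

theorem ct_eq : ∀ r < 12, ∀ s < 12, chevG2.commTerms r s = ct r s := fun r hr s hs =>
  eq_of_beq ((by decide +kernel : ∀ r < 12, ∀ s < 12, chevG2.commTerms r s == ct r s) r hr s hs)

/-- the Cartan integers -/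
def pr (r s : ℕ) : ℤ := ([[2, 1, 1, 1, 0, 1, -1, 0, -1, -1, -1, -2], [1, 2, 1, 0, 1, -1, 1, -1, 0, -1, -2, -1],
  [3, 3, 2, 1, 1, 0, 0, -1, -1, -2, -3, -3], [3, 0, 1, 2, -1, 3, -3, 1, -2, -1, 0, -3],
  [0, 3, 1, -1, 2, -3, 3, -2, 1, -1, -3, 0], [1, -1, 0, 1, -1, 2, -2, 1, -1, 0, 1, -1],
  [-1, 1, 0, -1, 1, -2, 2, -1, 1, 0, -1, 1], [0, -3, -1, 1, -2, 3, -3, 2, -1, 1, 3, 0],
  [-3, 0, -1, -2, 1, -3, 3, -1, 2, 1, 0, 3], [-3, -3, -2, -1, -1, 0, 0, 1, 1, 2, 3, 3],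
  [-1, -2, -1, 0, -1, 1, -1, 1, 0, 1, 2, 1], [-2, -1, -1, -1, 0, -1, 1, 0, 1, 1, 1, 2]].getD r []).getD s 0

/-- the reflections -/
def rf (r s : ℕ) : ℕ := ([[11, 6, 8, 9, 4, 10, 1, 7, 2, 3, 5, 0], [5, 10, 7, 3, 9, 0, 11, 2, 8, 4, 1, 6],
  [10, 11, 9, 7, 8, 5, 6, 3, 4, 2, 0, 1], [6, 1, 4, 8, 2, 11, 0, 9, 3, 7, 10, 5],
  [0, 5, 3, 2, 7, 1, 10, 4, 9, 8, 6, 11], [1, 0, 2, 4, 3, 6, 5, 8, 7, 9, 11, 10],
  [1, 0, 2, 4, 3, 6, 5, 8, 7, 9, 11, 10], [0, 5, 3, 2, 7, 1, 10, 4, 9, 8, 6, 11],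
  [6, 1, 4, 8, 2, 11, 0, 9, 3, 7, 10, 5], [10, 11, 9, 7, 8, 5, 6, 3, 4, 2, 0, 1],
  [5, 10, 7, 3, 9, 0, 11, 2, 8, 4, 1, 6], [11, 6, 8, 9, 4, 10, 1, 7, 2, 3, 5, 0]].getD r []).getD s 0

theorem pair_eq (r s : Fin chevG2.nroots) : (rs chevG2).pair r s = pr r s := by
  rw [rs_pair]; revert r s; decide +kernel

theorem refl_eq (r s : Fin chevG2.nroots) : ((rs chevG2).refl r s : ℕ) = rf r s := by
  have h : ∀ r s : Fin chevG2.nroots, ∃ h : rf r s < chevG2.nroots, ∀ i,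
    rc chevG2 (rf r s) i = rc chevG2 s i - pr r s * rc chevG2 r i := by decide +kernel
  obtain ⟨h1, h2⟩ := h r s
  exact congrArg Fin.val ((rs chevG2).rc_inj (a₂ := ⟨_, h1⟩) (by
    rw [RSys.rc_refl, pair_eq]; exact (funext h2).symm))

variable {F : Type*} [Field F] {V : Type*} [AddCommGroup V] [Module ℂ V]
  {ρ : chevG2.group F →* End ℂ V} {ψ : AddChar F ℂ} {L L' : List (ℕ × F)} {v : V} {r s p : ℕ}
  {a b c t u : F} {g : chevG2.group F}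

/-- root elements -/
abbrev x (r : ℕ) (t : F) : chevG2.group F := xG chevG2 F r t

theorem swap (hr : r < 12) (hs : s < 12) (h : r + s ≠ 11) (t u : F) : x r t * x s u = x s u * x r t *
    wordVal x ((ct s r).map fun c => (c.1, c.2.1 * (-u) ^ c.2.2.1 * t ^ c.2.2.2)) := by
  by_cases e : r = s
  · subst e
    rw [(by decide : ∀ r < 12, ct r r = []) r hr, xG_add, xG_add, add_comm]; simp
  have := (stRel_xG chevG2 F).comm s r u t hs hr e fun e' =>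
    h ((by decide : ∀ s < 12, chevG2.neg s + s = 11) s hs ▸ e' ▸ rfl)
  rw [ChevalleyDatum.commWord, ct_eq s hs r hr] at this
  rw [← this]; group

variable (ρ ψ) in
/-- common eigenvectors of root subgroups -/
def Ws (L : List (ℕ × F)) : Submodule ℂ V where
  carrier := {v | ∀ p ∈ L, ∀ t, ρ (x p.1 t) v = ψ (p.2 * t) • v}
  zero_mem' _ _ _ := by simp
  add_mem' ha hb p hp t := by rw [map_add, ha p hp, hb p hp, smul_add]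
  smul_mem' c _ ha p hp t := by rw [map_smul, ha p hp, smul_comm]

theorem mem_Ws : v ∈ Ws ρ ψ L ↔ ∀ p ∈ L, ∀ t, ρ (x p.1 t) v = ψ (p.2 * t) • v := Iff.rfl

theorem mem_cons : v ∈ Ws ρ ψ ((r, a) :: L) ↔ (∀ t, ρ (x r t) v = ψ (a * t) • v) ∧ v ∈ Ws ρ ψ L := by
  simp [mem_Ws]

/-- the weight of a root -/
def lk : List (ℕ × F) → ℕ → F
  | [], _ => 0
  | p :: L, r => if p.1 = r then p.2 else lk L r

theorem lk_mem (h : r ∈ L.map Prod.fst) : (r, lk L r) ∈ L := by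
  induction L with
  | nil => simp at h
  | cons p L ih =>
    rw [lk]
    split_ifs with e
    · rw [← e]; exact List.mem_cons_self
    · exact List.mem_cons_of_mem _ (ih ((List.mem_cons.1 h).resolve_left (Ne.symm e)))

theorem lk_eq (h : r ∉ L.map Prod.fst) : lk L r = 0 := by
  induction L with
  | nil => rfl
  | cons p L ih =>
    simp only [List.map_cons, List.mem_cons, not_or] at h
    rw [lk, if_neg (Ne.symm h.1), ih h.2]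

theorem word_wt (hv : v ∈ Ws ρ ψ L) {w : List (ℕ × F)} (h : ∀ c ∈ w, c.2 = 0 ∨ c.1 ∈ L.map Prod.fst) :
    ρ (wordVal x w) v = ψ (w.map fun c => lk L c.1 * c.2).sum • v := by
  induction w with
  | nil => simp
  | cons c w ih =>
    rw [wordVal_cons, rep_mul, ih fun c hc => h c (List.mem_cons_of_mem _ hc), map_smul, List.map_cons,
      List.sum_cons, add_comm, AddChar.map_add_eq_mul, mul_smul]
    rcases h c List.mem_cons_self with e | e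
    · simp [e, xG_zero]
    · rw [hv _ (lk_mem e)]

variable (ρ ψ) in
/-- `g` maps one weight space into another -/
def Mv (g : chevG2.group F) (L L' : List (ℕ × F)) : Prop := ∀ v ∈ Ws ρ ψ L, ρ g v ∈ Ws ρ ψ L'

/-- the condition on roots for moving by a root element -/
def Ok (p s : ℕ) (S S' : List ℕ) : Prop := s < 12 ∧ ∀ r ∈ S', r < 12 ∧ r ∈ S ∧ r + s ≠ 11 ∧
  ∀ c ∈ ct s r, c.2.1 % p = 0 ∨ c.1 ∈ S

instance decOk (p s : ℕ) (S S' : List ℕ) : Decidable (Ok p s S S') := by unfold Ok; infer_instance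

theorem mv (p : ℕ) (hp : (p : F) = 0)
    (h1 : Ok p s (L.map Prod.fst) (L'.map Prod.fst) := by dsimp only [List.map]; decide)
    (h2 : ∀ a ∈ L', ∀ t, a.2 * t = lk L a.1 * t + ((ct s a.1).map fun c =>
      if c.2.1 % (p : ℤ) = 0 then 0 else lk L c.1 * (c.2.1 * (-u) ^ c.2.2.1 * t ^ c.2.2.2)).sum := by
        simp only [List.forall_mem_cons]
        (repeat' refine And.intro ?_ ?_) <;> intro _ <;> simp [lk, ct] <;> ring) :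
    Mv ρ ψ (x s u) L L' := fun v hv a ha t => by
  obtain ⟨e1, e2, e3, e4⟩ := h1.2 a.1 (List.mem_map_of_mem ha)
  have e : ∀ c : ℤ, c % p = 0 → (c : F) = 0 := fun c e => by
    obtain ⟨k, e⟩ := Int.dvd_of_emod_eq_zero e
    simp [e, hp]
  rw [← rep_mul, swap e1 h1.1 e3, rep_mul, rep_mul, word_wt hv, map_smul, map_smul, hv _ (lk_mem e2),
    map_smul, smul_smul, ← AddChar.map_add_eq_mul, h2 a ha, add_comm, List.map_map]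
  · congr 5
    ext c
    split_ifs with h
    · simp [e _ h]
    · rfl
  · intro c hc
    obtain ⟨c, hc', rfl⟩ := List.mem_map.1 hc
    exact (e4 c hc').imp_left fun h => by simp [e _ h]

theorem Mv.of_conj (f : ℕ → ℕ) (c : ℕ → F) (h : ∀ s < 12, ∀ u, g⁻¹ * x s u * g = x (f s) (c s * u))
    (h1 : ∀ s ∈ L'.map Prod.fst, s < 12 ∧ f s ∈ L.map Prod.fst)
    (h2 : ∀ a ∈ L', a.2 = lk L (f a.1) * c a.1) : Mv ρ ψ g L L' := fun v hv a ha t => by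
  obtain ⟨e1, e2⟩ := h1 a.1 (List.mem_map_of_mem ha)
  rw [← rep_mul, show x a.1 t * g = g * (g⁻¹ * x a.1 t * g) by group, h _ e1, rep_mul, hv _ (lk_mem e2),
    map_smul, h2 a ha, mul_assoc]

theorem hmap (r : ℕ) (ht : t ≠ 0) (h1 : r < 12 ∧ ∀ s ∈ L'.map Prod.fst, s < 12 ∧ s ∈ L.map Prod.fst := by
      dsimp only [List.map]; decide)
    (h2 : ∀ a ∈ L', a.2 = lk L a.1 * t ^ pr r a.1 := by simp [lk, pr]) : Mv ρ ψ (hElt chevG2 x r t)⁻¹ L L' :=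
  Mv.of_conj id (fun s => t ^ pr r s) (fun s hs u => by
    have := (r7_xG chevG2 F).h_conj_x (stRel_xG chevG2 F) ⟨r, h1.1⟩ ⟨s, hs⟩ ht u
    rwa [pair_eq, ← inv_inv (hElt _ _ _ _), inv_inv (hElt _ _ _ _)⁻¹] at this) h1.2 h2

variable (F) in
/-- the signs -/
def sg (r s : ℕ) : F := eta chevG2 r s

theorem sg_sq (hr : r < 12) (hs : s < 12) (a : F) : sg F r s * a * sg F r s = a := by
  rw [mul_right_comm]
  exact (congrArg (· * a) ((r7_xG chevG2 F).mul_self ⟨r, hr⟩ ⟨s, hs⟩)).trans (one_mul a)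

theorem sg_ne (hr : r < 12) (hs : s < 12) (ha : a ≠ 0) : sg F r s * a ≠ 0 :=
  mul_ne_zero ((r7_xG chevG2 F).ne_zero ⟨r, hr⟩ ⟨s, hs⟩) ha

theorem nmap (r : ℕ) (h1 : r < 12 ∧ ∀ s ∈ L'.map Prod.fst, s < 12 ∧ rf r s ∈ L.map Prod.fst := by
      dsimp only [List.map]; decide)
    (h2 : ∀ a ∈ L', a.2 = lk L (rf r a.1) * sg F r a.1 := by simp [lk, rf, sg_sq]) : Mv ρ ψ (nElt chevG2 x r 1)⁻¹ L L' :=
  Mv.of_conj (rf r) (sg F r) (fun s hs u => by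
    have := (r7_xG chevG2 F).conj_one ⟨r, h1.1⟩ ⟨s, hs⟩ u
    rwa [refl_eq, ← inv_inv (nElt _ _ _ _), inv_inv (nElt _ _ _ _)⁻¹] at this) h1.2 h2

variable (ρ ψ) in
/-- dimension of a weight space -/
noncomputable def dm (L : List (ℕ × F)) : ℕ := finrank ℂ (Ws ρ ψ L)

variable [FiniteDimensional ℂ V]

theorem Mv.le (h : Mv ρ ψ g L L') : dm ρ ψ L ≤ dm ρ ψ L' :=
  (finrank_map_rep (ρ := ρ) g _).ge.trans (Submodule.finrank_mono (by rintro _ ⟨v, hv, rfl⟩; exact h v hv))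

theorem pm (h : ∀ a ∈ L', a ∈ L := by simp) : dm ρ ψ L ≤ dm ρ ψ L' :=
  Submodule.finrank_mono fun _ hv a ha => hv a (h a ha)

theorem dm_nil : dm ρ ψ [] = finrank ℂ V := by
  rw [dm, show Ws ρ ψ [] = ⊤ from eq_top_iff.2 fun _ _ _ h => by simp at h, finrank_top]

theorem dm_pos : 0 < dm ρ ψ L ↔ ∃ v ∈ Ws ρ ψ L, v ≠ 0 := by
  rw [dm, pos_iff_ne_zero, Ne, Submodule.finrank_eq_zero, ← Ne, Submodule.ne_bot_iff]

variable [Fintype F] (hψ : ψ ≠ 1)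
include hψ

theorem sum_le (S : Finset F) : ∑ a ∈ S, dm ρ ψ ((r, a) :: L) ≤ dm ρ ψ L :=
  (sum_le_sum_of_subset (subset_univ S)).trans <| sum_finrank_le (fun t => ρ (x r t))
    (l := fun a t => ψ (a * t)) (fun _ _ h => mulShift_inj hψ (AddChar.ext _ _ (congrFun h)))
    (fun _ _ h => (mem_cons.1 h).2) fun _ _ h => mem_wtSp.2 (mem_cons.1 h).1

theorem card_le {d : ℕ} (S : Finset F) (h : ∀ a ∈ S, d ≤ dm ρ ψ ((r, a) :: L)) : #S * d ≤ dm ρ ψ L :=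
  (card_nsmul_le_sum S _ d h).trans (sum_le hψ S)

theorem split {d : ℕ} (h : ∀ a ≠ 0, d ≤ dm ρ ψ ((r, a) :: L)) :
    dm ρ ψ ((r, 0) :: L) + (Fintype.card F - 1) * d ≤ dm ρ ψ L := by
  classical
  refine le_trans ?_ (sum_le hψ (r := r) univ)
  rw [← add_sum_erase _ _ (mem_univ 0), ← card_univ, ← card_erase_of_mem (mem_univ 0)]
  exact Nat.add_le_add_left (card_nsmul_le_sum _ _ d fun a ha => h a (ne_of_mem_erase ha)) _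

omit [FiniteDimensional ℂ V] in
theorem le_of_wt {Z : Submodule ℂ V} (h : ∀ t, Mv ρ ψ (x r t) L L)
    (hZ : ∀ a, Ws ρ ψ ((r, a) :: L) ≤ Z) : Ws ρ ψ L ≤ Z :=
  wt_induction (a := fun t => ρ (x r t)) hψ (by simp [xG_zero]) (fun a b => by rw [← map_mul, xG_add])
    h fun a y hy h' => hZ a (mem_cons.2 ⟨mem_wtSp.1 h', hy⟩)

theorem ex (h : ∀ t, Mv ρ ψ (x r t) L L) (h0 : 0 < dm ρ ψ L) : ∃ a, 0 < dm ρ ψ ((r, a) :: L) := by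
  by_contra! e
  obtain ⟨v, hv, h0⟩ := dm_pos.1 h0
  exact h0 (le_of_wt hψ (Z := ⊥) h (fun a => (Submodule.finrank_eq_zero.1 (Nat.le_zero.1 (e a))).le) hv)

theorem triv (h : ∀ t, Mv ρ ψ (x r t) L L) (h0 : ∀ a ≠ 0, dm ρ ψ ((r, a) :: L) = 0) :
    dm ρ ψ L ≤ dm ρ ψ ((r, 0) :: L) :=
  Submodule.finrank_mono (le_of_wt hψ h fun a => by
    by_cases e : a = 0
    · rw [e]
    · exact (Submodule.finrank_eq_zero.1 (h0 a e)).trans_le bot_le)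

/-- a root subgroup acts trivially on a line stable under a suitable torus element -/
theorem triv_one (h : ∀ t, Mv ρ ψ (x r t) L L) (h1 : dm ρ ψ L ≤ 1) (hc : c ≠ 1)
    (h2 : ∀ a, Mv ρ ψ g ((r, a) :: L) ((r, a * c) :: L)) : dm ρ ψ L ≤ dm ρ ψ ((r, 0) :: L) := by
  classical
  refine triv hψ h fun a ha => ?_
  have := sum_le hψ (ρ := ρ) (r := r) (L := L) {a, a * c}
  rw [sum_pair fun e => hc (mul_left_cancel₀ ha (e.symm.trans (mul_one a).symm))] at this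
  have := (h2 a).le
  omega

omit hψ [Fintype F] in
theorem lin (hc : c ≠ 0) (h : ∀ a u, Mv ρ ψ (x s u) ((r, a) :: L) ((r, a + c * u) :: L)) (a b : F) :
    dm ρ ψ ((r, a) :: L) ≤ dm ρ ψ ((r, b) :: L) := by
  simpa [mul_inv_cancel_left₀ hc] using (h a (c⁻¹ * (b - a))).le

theorem heis (hc : c ≠ 0) (h : ∀ a u, Mv ρ ψ (x s u) ((r, a) :: L) ((r, a + c * u) :: L)) (a : F) :
    Fintype.card F * dm ρ ψ ((r, a) :: L) ≤ dm ρ ψ L :=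
  card_le hψ univ fun b _ => lin hc h a b

theorem heis_pos (hc : c ≠ 0) (h : ∀ a u, Mv ρ ψ (x s u) ((r, a) :: L) ((r, a + c * u) :: L))
    (h' : ∀ t, Mv ρ ψ (x r t) L L) (h0 : 0 < dm ρ ψ L) (b : F) : 0 < dm ρ ψ ((r, b) :: L) :=
  let ⟨a, ha⟩ := ex hψ h' h0
  ha.trans_le (lin hc h a b)

end Cfsg.Agent.RD.G2
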